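import Cfsg.Agent.H9.Leech.Xi
import Cfsg.Agent.H9.DodComp
import Cfsg.Agent.H9.ClsThm
set_option autoImplicit false

/-! Self-duality of the code and sign changes; more transitivity. -/

namespace Cfsg.Agent.H9.Leech
open Cfsg Cfsg.Agent.H9
open scoped Pointwise

theorem dual_ok : allR (fun h => @Bool.rec (fun _ => Bool)
    (anyN (fun i => Nat.beq (Nat.land (pc (Nat.land (Nat.mul h 4096) (enc (Nat.pow 2 i)))) 1) 1) 12) true (Nat.beq h 0)) 12 0 = true := by
  decide +kernel

theorem card_symm_inter (A B C : Finset GolayPt) (h1 : 2 ∣ (A ∩ C).card) (h2 : 2 ∣ (B ∩ C).card) : 2 ∣ (symmDiff A B ∩ C).card := by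
  have h : symmDiff A B ∩ C = symmDiff (A ∩ C) (B ∩ C) := by
    ext p; simp only [Finset.mem_inter, Finset.mem_symmDiff]; tauto
  rw [h]
  have := card_symmDiff' (A ∩ C) (B ∩ C)
  omega

theorem selfdual {D : Finset GolayPt} (h : ∀ C ∈ Cd, 2 ∣ (D ∩ C).card) : D ∈ Cd := by
  obtain ⟨m, hm, rfl⟩ := exists_mask D
  have hk : m % 4096 < 4096 := Nat.mod_lt _ (by norm_num)
  have hc : S (enc (m % 4096)) ∈ Cd := mem_supports_iff.2 ⟨_, hk, rfl⟩
  have hxor : (m ^^^ enc (m % 4096)) % 4096 = 0 := by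
    have e : (4096 : ℕ) = 2 ^ 12 := by norm_num
    rw [e, Nat.xor_mod_two_pow, ← e, enc_mod hk, Nat.xor_self]
  have hlt : m ^^^ enc (m % 4096) < 2 ^ 24 := Nat.xor_lt_two_pow hm (enc_lt _)
  obtain ⟨q, hq⟩ : ∃ q, m ^^^ enc (m % 4096) = q * 4096 := ⟨_, (Nat.div_mul_cancel (Nat.dvd_of_mod_eq_zero hxor)).symm⟩
  have hq2 : q < 4096 := by omega
  by_cases h0 : q = 0
  · rw [h0, zero_mul] at hq
    have : m = enc (m % 4096) := Nat.xor_eq_zero_iff.1 hq
    rw [this]; exact hc
  · exfalso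
    have h1 := allR_spec dual_ok q (Nat.zero_le _) (by simpa using hq2)
    have hb : Nat.beq q 0 = false := by
      cases hb : Nat.beq q 0
      · rfl
      · exact absurd (Nat.eq_of_beq_eq_true hb) h0
    simp only [hb] at h1
    obtain ⟨i, hi, h2⟩ := anyN_spec h1
    have h3 := Nat.eq_of_beq_eq_true h2
    have hci : S (enc (2 ^ i)) ∈ Cd := mem_supports_iff.2 ⟨2 ^ i, by
      calc 2 ^ i < 2 ^ 12 := Nat.pow_lt_pow_right (by norm_num) hi
        _ = 4096 := by norm_num, rfl⟩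
    have h4 := card_symm_inter (S m) (S (enc (m % 4096))) (S (enc (2 ^ i))) (h _ hci) (cd_inter hc hci)
    rw [← S_xor, hq, pc_and] at h4
    have e1 : (Nat.mul q 4096).land (enc (Nat.pow 2 i)) = q * 4096 &&& enc (2 ^ i) := rfl
    have e2 : Nat.land (pc (q * 4096 &&& enc (2 ^ i))) 1 = pc (q * 4096 &&& enc (2 ^ i)) % 2 := Nat.and_one_is_mod _
    rw [e1, e2] at h3
    omega

/-- indicator word -/
def iw (X : Finset GolayPt) : GolayPt → ZMod 2 := fun p => if p ∈ X then 1 else 0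

theorem support_iw (X : Finset GolayPt) : support₂ (iw X) = X := by
  ext p; simp [support₂, iw]

theorem iw_mem {X : Finset GolayPt} (h : X ∈ Cd) : iw X ∈ golayCode := by
  obtain ⟨w, hw, h1⟩ := h
  have : iw X = w := support_inj (by rw [support_iw]; exact h1.symm)
  rw [this]; exact hw

theorem restrict {Z A : Finset GolayPt} (hA : A ⊆ Z) (h : ∀ D ∈ Cd, D ⊆ Z → 2 ∣ (A ∩ D).card) :
    ∃ C ∈ Cd, ∀ p ∈ Z, p ∈ C ↔ p ∈ A := by
  let P : Submodule (ZMod 2) (GolayPt → ZMod 2) :=
    { carrier := {w | ∀ p ∈ Z, w p = 0}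
      zero_mem' := fun _ _ => rfl
      add_mem' := fun {a b} ha hb p hp => by rw [Pi.add_apply, ha p hp, hb p hp, add_zero]
      smul_mem' := fun c a ha p hp => by rw [Pi.smul_apply, ha p hp, smul_zero] }
  by_cases hm : iw A ∈ golayCode ⊔ P
  · obtain ⟨g, hg, w, hw, h1⟩ := Submodule.mem_sup.1 hm
    refine ⟨support₂ g, ⟨g, hg, rfl⟩, fun p hp => ?_⟩
    have h2 := congrFun h1 p
    rw [Pi.add_apply, hw p hp, add_zero] at h2
    simp only [support₂, Finset.mem_filter, Finset.mem_univ, true_and, h2]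
    unfold iw; split_ifs with h3 <;> simp [h3]
  · exfalso
    obtain ⟨f, hf, hle⟩ := Submodule.exists_le_ker_of_notMem hm
    have hfX : ∀ X : Finset GolayPt, f (iw X) = ((X ∩ (Finset.univ.filter fun p => f (Pi.single p 1) ≠ 0)).card : ZMod 2) := by
      intro X
      rw [LinearMap.pi_apply_eq_sum_univ f (iw X)]
      have h1 : ∀ p, iw X p • f (fun j => if p = j then 1 else 0) = if p ∈ X ∩ (Finset.univ.filter fun p => f (Pi.single p 1) ≠ 0) then 1 else 0 := by
        intro p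
        have e : (fun j => if p = j then (1 : ZMod 2) else 0) = Pi.single p 1 := by
          funext j; simp [Pi.single_apply, eq_comm]
        rw [e]
        have h01 : ∀ a : ZMod 2, a = 0 ∨ a = 1 := by decide
        unfold iw
        by_cases hp : p ∈ X
        · rcases h01 (f (Pi.single p 1)) with h2 | h2 <;> simp [hp, h2]
        · simp [hp]
      rw [Finset.sum_congr rfl (fun p _ => h1 p), Finset.sum_boole]
      congr 2
      ext p; simp
    have hD : (Finset.univ.filter fun p => f (Pi.single p 1) ≠ 0) ∈ Cd := by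
      apply selfdual
      intro C hC
      have h1 : f (iw C) = 0 := LinearMap.mem_ker.1 (hle (Submodule.mem_sup_left (iw_mem hC)))
      rw [hfX] at h1
      rw [Finset.inter_comm]
      exact (ZMod.natCast_eq_zero_iff _ _).1 h1
    have hDZ : (Finset.univ.filter fun p => f (Pi.single p 1) ≠ 0) ⊆ Z := by
      intro p hp
      by_contra hpZ
      have : (Pi.single p 1 : GolayPt → ZMod 2) ∈ P := by
        intro q hq
        rw [Pi.single_apply, if_neg (by rintro rfl; exact hpZ hq)]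
      exact (Finset.mem_filter.1 hp).2 (LinearMap.mem_ker.1 (hle (Submodule.mem_sup_right this)))
    have h2 := h _ hD hDZ
    apply hf
    rw [hfX]
    exact (ZMod.natCast_eq_zero_iff _ _).2 h2

/-- a code word inside a slight enlargement of a code word -/
theorem cd_unique {C D E : Finset GolayPt} (hC : C ∈ Cd) (hD : D ∈ Cd) (hne : D.Nonempty) (hsub : D ⊆ C ∪ E)
    (hsmall : C.card + 2 * E.card < 16) : D = C := by
  have h1 := card_symmDiff' D C
  have h2 : D.card ≤ (D ∩ C).card + E.card := by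
    have : D ⊆ (D ∩ C) ∪ E := by
      intro p hp
      rcases Finset.mem_union.1 (hsub hp) with h | h
      · exact Finset.mem_union_left _ (Finset.mem_inter.2 ⟨hp, h⟩)
      · exact Finset.mem_union_right _ h
    exact (Finset.card_le_card this).trans (Finset.card_union_le _ _)
  have h3 := Finset.card_pos.2 hne
  have h4 : (symmDiff D C).card < 8 := by
    rcases cd_card hD with h | h | h | h | h <;> omega
  have h5 : (symmDiff D C).card = 0 := by
    rcases cd_card (cd_symm hD hC) with h | h | h | h | h <;> omega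
  exact symmDiff_eq_bot.1 (Finset.card_eq_zero.1 h5)

/-! ### orbit relation -/

def Eqv (x y : GolayPt → ℤ) : Prop := ∃ g : Co0, Maps g x y

theorem Eqv.symm {x y : GolayPt → ℤ} (h : Eqv x y) : Eqv y x := by obtain ⟨g, hg⟩ := h; exact ⟨g⁻¹, hg.inv⟩
theorem Eqv.trans {x y z : GolayPt → ℤ} (h : Eqv x y) (h' : Eqv y z) : Eqv x z := by
  obtain ⟨g, hg⟩ := h; obtain ⟨k, hk⟩ := h'; exact ⟨k * g, hg.mul hk⟩

/-- the monomial elements realising a sign change of an odd vector -/
theorem sign_odd {x y : GolayPt → ℤ} (hx : x ∈ leechLattice) (hy : y ∈ leechLattice) (habs : ∀ i, |x i| = |y i|)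
    (hodd : ∀ i, x i % 2 = 1) : ∃ c, ∃ hc : c ∈ Cd, Maps (mono 1 M24.one_mem c hc) x y := by
  have hTx := (mem_iff.1 hx).1
  have hTy := (mem_iff.1 hy).1
  refine ⟨symmDiff (TT x) (TT y), cd_symm hTx hTy, ?_⟩
  have h := mono_maps M24.one_mem (cd_symm hTx hTy) hx
  have : signedPerm 1 (symmDiff (TT x) (TT y)) x = y := by
    funext i
    have h1 : (1 : Equiv.Perm GolayPt).symm i = i := rfl
    simp only [signedPerm, h1, Finset.mem_symmDiff, mem_TT]
    have h2 := habs i
    have h3 := hodd i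
    rcases abs_eq_abs.1 h2 with h4 | h4
    · rw [h4]; split_ifs with h5
      · omega
      · rfl
    · rw [h4] at h3 ⊢; split_ifs with h5
      · omega
      · omega
  rw [this] at h
  exact h

theorem sign_even {x y : GolayPt → ℤ} (hx : x ∈ leechLattice) (hy : y ∈ leechLattice) (habs : ∀ i, |x i| = |y i|)
    (heven : ∀ i, x i % 2 = 0)
    (hsmall : (TT x).card + 2 * (Finset.univ.filter fun i => i ∉ TT x ∧ x i ≠ 0).card < 16) :
    ∃ c, ∃ hc : c ∈ Cd, Maps (mono 1 M24.one_mem c hc) x y := by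
  have hTx := (mem_iff.1 hx).1
  obtain ⟨E, hE⟩ : ∃ E : Finset GolayPt, E = Finset.univ.filter fun i => i ∉ TT x ∧ x i ≠ 0 := ⟨_, rfl⟩
  obtain ⟨A, hA⟩ : ∃ A : Finset GolayPt, A = Finset.univ.filter fun i => x i ≠ y i := ⟨_, rfl⟩
  rw [← hE] at hsmall
  have hAm : ∀ i, i ∈ A ↔ x i ≠ y i := by intro i; rw [hA]; simp
  have hEm : ∀ i, i ∈ E ↔ i ∉ TT x ∧ x i ≠ 0 := by intro i; rw [hE]; simp
  have hpm : ∀ i, x i = y i ∨ x i = - y i := fun i => abs_eq_abs.1 (habs i)
  have hAZ : A ⊆ TT x ∪ E := by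
    intro i hi
    rw [hAm] at hi
    rw [Finset.mem_union, hEm]
    by_cases h1 : i ∈ TT x
    · exact Or.inl h1
    · refine Or.inr ⟨h1, fun h0 => ?_⟩
      rcases hpm i with h | h <;> omega
  have hes : (∑ i, y i) % 8 = 0 := by
    rcases (mem_iff.1 hy).2 with ⟨_, h⟩ | ⟨h, _⟩
    · exact h
    · exfalso
      have h1 := h none
      have h2 := heven none
      rcases hpm none with h3 | h3 <;> omega
  have hxs : (∑ i, x i) % 8 = 0 := by
    rcases (mem_iff.1 hx).2 with ⟨_, h⟩ | ⟨h, _⟩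
    · exact h
    · have h1 := h none
      have h2 := heven none
      omega
  have hpar : 2 ∣ (A ∩ TT x).card := by
    -- sum of x i - y i
    have h1 : ∀ i, ∃ k, x i - y i = 4 * ind (A ∩ TT x) i + 8 * k := by
      intro i
      unfold ind
      by_cases h2 : i ∈ A
      · have h3 := (hAm i).1 h2
        have h4 : x i = - y i := (hpm i).resolve_left h3
        by_cases h5 : i ∈ TT x
        · rw [if_pos (Finset.mem_inter.2 ⟨h2, h5⟩)]
          have := mem_TT.1 h5
          have := heven i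
          exact ⟨(x i - y i - 4) / 8, by omega⟩
        · rw [if_neg (fun h => h5 (Finset.mem_inter.1 h).2)]
          have : ¬ _ := fun h => h5 (mem_TT.2 h)
          have := heven i
          exact ⟨(x i - y i) / 8, by omega⟩
      · rw [if_neg (fun h => h2 (Finset.mem_inter.1 h).1)]
        have h3 : x i = y i := by by_contra h; exact h2 ((hAm i).2 h)
        exact ⟨0, by omega⟩
    choose k hk using h1
    have h2 : ∑ i, (x i - y i) = 4 * ((A ∩ TT x).card : ℤ) + 8 * ∑ i, k i := by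
      rw [Finset.sum_congr rfl (fun i _ => hk i), Finset.sum_add_distrib, ← Finset.mul_sum, ← Finset.mul_sum, sum_ind]
    rw [Finset.sum_sub_distrib] at h2
    omega
  obtain ⟨C, hC, h1⟩ := restrict hAZ (by
    intro D hD hDZ
    rcases Finset.eq_empty_or_nonempty D with h0 | h0
    · rw [h0]; simp
    · rw [cd_unique hTx hD h0 hDZ hsmall]; exact hpar)
  refine ⟨C, hC, ?_⟩
  have h := mono_maps M24.one_mem hC hx
  have : signedPerm 1 C x = y := by
    funext i
    have h2 : (1 : Equiv.Perm GolayPt).symm i = i := rfl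
    simp only [signedPerm, h2]
    by_cases hZ : i ∈ TT x ∪ E
    · by_cases h3 : i ∈ A
      · rw [if_pos ((h1 i hZ).2 h3)]
        have := (hpm i).resolve_left ((hAm i).1 h3)
        omega
      · rw [if_neg (fun h => h3 ((h1 i hZ).1 h))]
        by_contra h; exact h3 ((hAm i).2 h)
    · have h3 : x i = 0 := by
        by_contra h4
        apply hZ
        rw [Finset.mem_union, hEm]
        by_cases h5 : i ∈ TT x
        · exact Or.inl h5
        · exact Or.inr ⟨h5, h4⟩
      have h4 : y i = 0 := by rcases hpm i with h | h <;> omega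
      rw [h3, h4]; simp
  rw [this] at h
  exact h

theorem Eqv.mem' {x y : GolayPt → ℤ} (h : Eqv x y) : y ∈ leechLattice := by obtain ⟨g, hg⟩ := h; exact hg.mem'

theorem perm_eqv {σ : Equiv.Perm GolayPt} (hσ : σ ∈ M24) {x : GolayPt → ℤ} (hx : x ∈ leechLattice) :
    Eqv x (fun i => x (σ.symm i)) := by
  refine ⟨mono σ hσ ∅ cd_empty, ?_⟩
  have h := mono_maps hσ cd_empty hx
  have : signedPerm σ ∅ x = fun i => x (σ.symm i) := by funext i; simp [signedPerm]
  rw [this] at h; exact h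

theorem shape_odd {x y : GolayPt → ℤ} (hx : x ∈ leechLattice) (hy : y ∈ leechLattice) {σ : Equiv.Perm GolayPt} (hσ : σ ∈ M24)
    (habs : ∀ i, |x i| = |y (σ i)|) (hodd : ∀ i, x i % 2 = 1) : Eqv x y := by
  have h1 := perm_eqv hσ hx
  obtain ⟨c, hc, h2⟩ := sign_odd h1.mem' hy (fun i => by rw [habs]; simp) (fun i => hodd _)
  exact h1.trans ⟨_, h2⟩

theorem card_filter_perm (σ : Equiv.Perm GolayPt) (P : GolayPt → Prop) [DecidablePred P] :
    (Finset.univ.filter fun i => P (σ.symm i)).card = (Finset.univ.filter P).card := by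
  apply Finset.card_bij' (fun i _ => σ.symm i) (fun i _ => σ i)
  · intro i hi; simpa using hi
  · intro i hi; simpa using hi
  · intro i _; simp
  · intro i _; simp

theorem shape_even {x y : GolayPt → ℤ} (hx : x ∈ leechLattice) (hy : y ∈ leechLattice) {σ : Equiv.Perm GolayPt} (hσ : σ ∈ M24)
    (habs : ∀ i, |x i| = |y (σ i)|) (heven : ∀ i, x i % 2 = 0)
    (hsmall : (TT x).card + 2 * (Finset.univ.filter fun i => i ∉ TT x ∧ x i ≠ 0).card < 16) : Eqv x y := by
  have h1 := perm_eqv hσ hx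
  have e1 : (TT fun i => x (σ.symm i)).card = (TT x).card := card_filter_perm σ (fun i => x i % 4 = 2 ∨ x i % 4 = 3)
  have e2 : (Finset.univ.filter fun i => i ∉ TT (fun i => x (σ.symm i)) ∧ x (σ.symm i) ≠ 0).card =
      (Finset.univ.filter fun i => i ∉ TT x ∧ x i ≠ 0).card := by
    rw [← card_filter_perm σ (fun i => i ∉ TT x ∧ x i ≠ 0)]
    congr 1
    ext i; simp only [Finset.mem_filter, Finset.mem_univ, true_and, mem_TT]
  obtain ⟨c, hc, h2⟩ := sign_even h1.mem' hy (fun i => by rw [habs]; simp) (fun i => heven _) (by rw [e1, e2]; exact hsmall)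
  exact h1.trans ⟨_, h2⟩

/-! ### transitivity of M24 on configurations -/

theorem subset_trans {A B : Finset GolayPt} (h : A.card = B.card) (h5 : A.card ≤ 5) : ∃ g ∈ M24, g • A = B := by
  obtain ⟨g, hg, h1⟩ := m24_transOn A.toList B.toList A.nodup_toList B.nodup_toList (by simp [h]) (by simp [h5])
    (fun _ _ => Finset.mem_univ _) (fun _ _ => Finset.mem_univ _)
  refine ⟨g, hg, ?_⟩
  ext p
  rw [Finset.mem_smul_finset]
  constructor
  · rintro ⟨q, hq, rfl⟩
    have : g q ∈ A.toList.map g := List.mem_map_of_mem (Finset.mem_toList.2 hq)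
    rw [h1] at this; exact Finset.mem_toList.1 this
  · intro hp
    have : p ∈ B.toList := Finset.mem_toList.2 hp
    rw [← h1] at this
    obtain ⟨q, hq, rfl⟩ := List.mem_map.1 this
    exact ⟨q, Finset.mem_toList.1 hq, rfl⟩

/-- a distinguished point and a set -/
theorem pt_subset_trans {A B : Finset GolayPt} (h : A.card = B.card) (h5 : A.card ≤ 4) {p q : GolayPt} (hp : p ∉ A) (hq : q ∉ B) :
    ∃ g ∈ M24, g • A = B ∧ g p = q := by
  obtain ⟨g, hg, h1⟩ := m24_transOn (p :: A.toList) (q :: B.toList) (by simp [hp, A.nodup_toList]) (by simp [hq, B.nodup_toList])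
    (by simp [h]) (by simp; omega) (fun _ _ => Finset.mem_univ _) (fun _ _ => Finset.mem_univ _)
  rw [List.map_cons, List.cons.injEq] at h1
  refine ⟨g, hg, ?_, h1.1⟩
  ext r
  rw [Finset.mem_smul_finset]
  constructor
  · rintro ⟨s, hs, rfl⟩
    have : g s ∈ A.toList.map g := List.mem_map_of_mem (Finset.mem_toList.2 hs)
    rw [h1.2] at this; exact Finset.mem_toList.1 this
  · intro hr
    have : r ∈ B.toList := Finset.mem_toList.2 hr
    rw [← h1.2] at this
    obtain ⟨s, hs, rfl⟩ := List.mem_map.1 this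
    exact ⟨s, Finset.mem_toList.1 hs, rfl⟩

/-- transport two configurations to a common one -/
theorem join {a b : Equiv.Perm GolayPt} (ha : a ∈ M24) (hb : b ∈ M24) : b⁻¹ * a ∈ M24 := M24.mul_mem (M24.inv_mem hb) ha

theorem oct_in_trans {O O' : Finset GolayPt} (hO : O ∈ octads) (hO' : O' ∈ octads) {p p' : GolayPt} (hp : p ∈ O) (hp' : p' ∈ O') :
    ∃ g ∈ M24, g • O = O' ∧ g p = p' := by
  obtain ⟨a, ha, h1, h2⟩ := oct_frame 1 (by norm_num) hO (fun _ => p) (fun _ _ => hp) (fun i hi j hj => by omega)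
  obtain ⟨b, hb, h3, h4⟩ := oct_frame 1 (by norm_num) hO' (fun _ => p') (fun _ _ => hp') (fun i hi j hj => by omega)
  refine ⟨b⁻¹ * a, join ha hb, by rw [mul_smul, h1, ← h3, inv_smul_smul], ?_⟩
  rw [Equiv.Perm.mul_apply, h2 0 (by norm_num), ← h4 0 (by norm_num)]; simp

theorem oct_out_trans {O O' : Finset GolayPt} (hO : O ∈ octads) (hO' : O' ∈ octads) {p p' : GolayPt} (hp : p ∉ O) (hp' : p' ∉ O') :
    ∃ g ∈ M24, g • O = O' ∧ g p = p' := by
  obtain ⟨a, ha, h1, _, h2⟩ := oct_frame' 0 (by norm_num) hO (fun _ => p) (fun _ h => absurd h (by omega)) (fun _ h => absurd h (by omega)) hp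
  obtain ⟨b, hb, h3, _, h4⟩ := oct_frame' 0 (by norm_num) hO' (fun _ => p') (fun _ h => absurd h (by omega)) (fun _ h => absurd h (by omega)) hp'
  refine ⟨b⁻¹ * a, join ha hb, by rw [mul_smul, h1, ← h3, inv_smul_smul], ?_⟩
  rw [Equiv.Perm.mul_apply, h2, ← h4]; simp

def out2T : ℕ := 0x2d12881eea30db562e727d9c410620899b49a46745eca5be4c85404704a27227253cabb09a9ab207350640c6e01bea9599d6686883c15264ee48880511d4f65875445b09a566a4824b95c02a1756d0324c6cf3cd466406405dc2899964a033395ab542b493ee470c4074d0f5480b65e8785aa9334640c445724f05d6eaa16d3935e8330241c40211da6ab0a8b05f384a8a4ac04b8e2ebb10982c33345f5a36563a8642880e0c1e8519cd60ec79c975a24a4882e21ca07599cca05b34d54fb20448dca00bd66ad04995daa84d9641e242b860bdab49ca307b9ac5a928398a418820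

theorem out2_ok : allN (fun n => band (checkM24 (pk out2T n)) (band (Nat.beq (imgM (pk out2T n) oct0) oct0) (Nat.beq (im (pk out2T n) 4) 4))) 15 = true := by
  decide +kernel

theorem out2_cov : allN (fun j => @Bool.rec (fun _ => Bool) (@Bool.rec (fun _ => Bool) (anyN (fun n => Nat.beq (im (pk out2T n) 6) j) 15)
    true (Nat.beq j 4)) true (Nat.beq (bt oct0 j) 1)) 24 = true := by decide +kernel

theorem B6_eq : B 6 = pt 4 := by decide +kernel

theorem out2_step {q : GolayPt} (hq : q ∉ S oct0) (hq6 : q ≠ B 6) : ∃ g ∈ M24, g • S oct0 = S oct0 ∧ g (B 6) = B 6 ∧ g (pt 6) = q := by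
  have h1 := (allN_iff _ _).1 out2_cov (idx q) (idx_lt q)
  have hb1 : Nat.beq (bt oct0 (idx q)) 1 = false := by
    cases hb : Nat.beq (bt oct0 (idx q)) 1
    · rfl
    · exact absurd (mem_S.2 (bt_eq_one_iff.1 hb)) hq
  have hb2 : Nat.beq (idx q) 4 = false := by
    cases hb : Nat.beq (idx q) 4
    · rfl
    · have := Nat.eq_of_beq_eq_true hb
      exact absurd (by rw [B6_eq, ← this, pt_idx]) hq6
  simp only [hb1, hb2] at h1
  obtain ⟨n, hn, h2⟩ := anyN_spec h1
  have h3 := (allN_iff _ _).1 out2_ok n hn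
  obtain ⟨h4, h5⟩ := band_iff.1 h3
  obtain ⟨h5, h6⟩ := band_iff.1 h5
  have hP := checkM24_perm h4
  refine ⟨toPerm (pk out2T n), checkM24_mem h4, ?_, ?_, ?_⟩
  · rw [smul_S hP, Nat.eq_of_beq_eq_true h5]
  · rw [B6_eq, toPerm_pt hP (by norm_num), Nat.eq_of_beq_eq_true h6]
  · rw [toPerm_pt hP (by norm_num), Nat.eq_of_beq_eq_true h2, pt_idx]

theorem oct_out2_trans {O O' : Finset GolayPt} (hO : O ∈ octads) (hO' : O' ∈ octads) {p p' q q' : GolayPt} (hp : p ∉ O) (hp' : p' ∉ O')
    (hq : q ∉ O) (hq' : q' ∉ O') (hpq : q ≠ p) (hpq' : q' ≠ p') :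
    ∃ g ∈ M24, g • O = O' ∧ g p = p' ∧ g q = q' := by
  have key : ∀ {O : Finset GolayPt} (hO : O ∈ octads) {p q : GolayPt} (hp : p ∉ O) (hq : q ∉ O) (hpq : q ≠ p),
      ∃ g ∈ M24, g • O = S oct0 ∧ g p = B 6 ∧ g q = pt 6 := by
    intro O hO p q hp hq hpq
    obtain ⟨a, ha, h1, _, h2⟩ := oct_frame' 0 (by norm_num) hO (fun _ => p) (fun _ h => absurd h (by omega)) (fun _ h => absurd h (by omega)) hp
    have h3 : a q ∉ S oct0 := by
      rw [← h1]; intro h
      obtain ⟨r, hr, h4⟩ := Finset.mem_smul_finset.1 h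
      rw [Equiv.Perm.smul_def] at h4
      rw [a.injective h4] at hr; exact hq hr
    have h4 : a q ≠ B 6 := by rw [← h2]; exact fun h => hpq (a.injective h)
    obtain ⟨b, hb, h5, h6, h7⟩ := out2_step h3 h4
    refine ⟨b⁻¹ * a, join ha hb, by rw [mul_smul, h1, inv_smul_eq_iff, h5], ?_, ?_⟩
    · rw [Equiv.Perm.mul_apply, h2, Equiv.Perm.inv_eq_iff_eq, h6]
    · rw [Equiv.Perm.mul_apply, Equiv.Perm.inv_eq_iff_eq, h7]
  obtain ⟨a, ha, h1, h2, h2'⟩ := key hO hp hq hpq
  obtain ⟨b, hb, h3, h4, h4'⟩ := key hO' hp' hq' hpq'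
  refine ⟨b⁻¹ * a, join ha hb, by rw [mul_smul, h1, ← h3, inv_smul_smul], ?_, ?_⟩
  · rw [Equiv.Perm.mul_apply, h2, ← h4]; simp
  · rw [Equiv.Perm.mul_apply, h2', ← h4']; simp

theorem dod_out_trans {O O' : Finset GolayPt} (hO : O ∈ dodecads) (hO' : O' ∈ dodecads) {p p' : GolayPt} (hp : p ∉ O) (hp' : p' ∉ O') :
    ∃ g ∈ M24, g • O = O' ∧ g p = p' := by
  obtain ⟨a, ha, h1⟩ := dodecad_trans hO dod0_mem
  obtain ⟨b, hb, h2⟩ := dodecad_trans hO' dod0_mem
  have key : ∀ {O : Finset GolayPt} {p : GolayPt} (a : Equiv.Perm GolayPt), a • O = S dod0 → p ∉ O → a p ∈ (S dod0)ᶜ := by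
    intro O p a h1 hp
    rw [Finset.mem_compl, ← h1]
    intro h
    obtain ⟨r, hr, h4⟩ := Finset.mem_smul_finset.1 h
    rw [Equiv.Perm.smul_def] at h4
    rw [a.injective h4] at hr; exact hp hr
  obtain ⟨c, hc, h3⟩ := K11_comp_trans [a p] [b p'] (by simp) (by simp) rfl (by simp)
    (by intro x hx; rw [List.mem_singleton.1 hx]; exact key a h1 hp) (by intro x hx; rw [List.mem_singleton.1 hx]; exact key b h2 hp')
  have h4 : c (a p) = b p' := by simpa using h3
  have hcK := (mem_chn.1 hc).1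
  have hcM : c ∈ M24 ∧ c • S dod0 = S dod0 := hcK
  refine ⟨b⁻¹ * (c * a), join (M24.mul_mem hcM.1 ha) hb, ?_, ?_⟩
  · rw [mul_smul, mul_smul, h1, hcM.2, ← h2, inv_smul_smul]
  · rw [Equiv.Perm.mul_apply, Equiv.Perm.mul_apply, h4]; simp

end Cfsg.Agent.H9.Leech
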