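import Cfsg.Agent.H9.Leech.Cnt
set_option autoImplicit false

/-! Pairs consisting of a vector of norm 48 and a minimal vector. -/

namespace Cfsg.Agent.H9.Leech
open Cfsg Cfsg.Agent.H9
open scoped Pointwise

/-! ### the minimal vectors -/

theorem octT {x : GolayPt → ℤ} (h : ShE 8 0 0 0 x) : ∃ O ∈ octads, ∃ M ⊆ O, (∀ i, x i = 2 * ind O i - 4 * ind M i) ∧
    (∑ i, x i) = 16 - 4 * (M.card : ℤ) := by
  have hO : TT x ∈ octads := ⟨(mem_iff.1 h.mem).1, h.nT⟩
  obtain ⟨M, hM⟩ : ∃ M, M = (TT x).filter fun i => x i = -2 := ⟨_, rfl⟩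
  have hv : ∀ i, x i = 2 * ind (TT x) i - 4 * ind M i := by
    intro i
    unfold ind
    have h1 := even_vals h rfl rfl i
    by_cases hi : i ∈ TT x
    · rw [if_pos hi]
      rcases h1.1 hi with h2 | h2
      · rw [if_neg (by rw [hM, Finset.mem_filter]; omega)]; omega
      · rw [if_pos (by rw [hM, Finset.mem_filter]; exact ⟨hi, h2⟩)]; omega
    · rw [if_neg hi, if_neg (by rw [hM, Finset.mem_filter]; exact fun h => hi h.1)]
      rcases h1.2 hi with h2 | h2
      · omega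
      · exfalso
        have h3 : i ∈ AK x 4 := by rw [mem_AK]; rcases h2 with h2 | h2 <;> rw [h2] <;> norm_num
        rw [Finset.card_eq_zero.1 h.n4] at h3
        exact Finset.notMem_empty _ h3
  refine ⟨TT x, hO, M, by rw [hM]; exact Finset.filter_subset _ _, hv, ?_⟩
  rw [Finset.sum_congr rfl (fun i _ => hv i), Finset.sum_sub_distrib, ← Finset.mul_sum, ← Finset.mul_sum, sum_ind, sum_ind, h.nT]
  norm_num

theorem oddT {x : GolayPt → ℤ} (h : ShO 1 0 x) : ∃ C ∈ Cd, ∃ r, ∃ c : ℤ, ((c = 4 ∧ r ∈ C) ∨ (c = -4 ∧ r ∉ C)) ∧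
    (∀ i, x i = (1 - 2 * ind C i) + (if i = r then c else 0)) ∧ (∑ i, x i) = 24 - 2 * (C.card : ℤ) + c := by
  obtain ⟨r, hr3, hr⟩ := odd_vals h
  have hmem : ∀ i, i ∈ TT x ↔ _ := fun i => mem_TT
  have hsum : ∀ c : ℤ, (∀ i, x i = (1 - 2 * ind (TT x) i) + (if i = r then c else 0)) → (∑ i, x i) = 24 - 2 * ((TT x).card : ℤ) + c := by
    intro c hc
    rw [Finset.sum_congr rfl (fun i _ => hc i), Finset.sum_add_distrib, Finset.sum_sub_distrib, ← Finset.mul_sum, sum_ind,
      Finset.sum_const, Finset.card_univ, card_pt, Finset.sum_ite_eq']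
    simp
  have hval : ∀ c : ℤ, x r = (1 - 2 * ind (TT x) r) + c → ∀ i, x i = (1 - 2 * ind (TT x) i) + (if i = r then c else 0) := by
    intro c hc i
    by_cases hi : i = r
    · rw [if_pos hi, hi]; exact hc
    · rw [if_neg hi]
      unfold ind
      have h1 := hmem i
      by_cases h2 : i ∈ TT x
      · rw [if_pos h2]; have := h1.1 h2; have := hr i hi; omega
      · rw [if_neg h2]; have : ¬ _ := fun h => h2 (h1.2 h); have := hr i hi; omega
  have h1 := hmem r
  rcases abs_eq (by norm_num : (0:ℤ) ≤ 3) |>.1 hr3 with h3 | h3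
  · have h4 : r ∈ TT x := h1.2 (by omega)
    have h5 := hval 4 (by unfold ind; rw [if_pos h4]; omega)
    exact ⟨TT x, (mem_iff.1 h.mem).1, r, 4, Or.inl ⟨rfl, h4⟩, h5, hsum 4 h5⟩
  · have h4 : r ∉ TT x := fun h => by have := h1.1 h; omega
    have h5 := hval (-4) (by unfold ind; rw [if_neg h4]; omega)
    exact ⟨TT x, (mem_iff.1 h.mem).1, r, -4, Or.inr ⟨rfl, h4⟩, h5, hsum (-4) h5⟩

theorem twoT {x : GolayPt → ℤ} (h : ShE 0 2 0 0 x) : ∃ a b, a ≠ b ∧ (x a = 4 ∨ x a = -4) ∧ (x b = 4 ∨ x b = -4) ∧ (∀ i, i ≠ a → i ≠ b → x i = 0) ∧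
    (∑ i, x i) = x a + x b := by
  obtain ⟨a, b, hab, hAB⟩ := Finset.card_eq_two.1 h.n4
  have h0 : ∀ i, i ≠ a → i ≠ b → x i = 0 := by
    intro i h1 h2
    have h3 : i ∉ AK x 4 := by rw [hAB]; simp [h1, h2]
    have h4 := (even_vals h rfl rfl i).2 (by rw [Finset.card_eq_zero.1 h.nT]; simp)
    rw [mem_AK] at h3
    rcases h4 with h4 | h4 | h4
    · exact h4
    · exact absurd (by rw [h4]; norm_num) h3
    · exact absurd (by rw [h4]; norm_num) h3
  refine ⟨a, b, hab, ?_, ?_, h0, ?_⟩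
  · have : a ∈ AK x 4 := by rw [hAB]; simp
    rw [mem_AK] at this
    exact abs_eq (by norm_num : (0:ℤ) ≤ 4) |>.1 this
  · have : b ∈ AK x 4 := by rw [hAB]; simp
    rw [mem_AK] at this
    exact abs_eq (by norm_num : (0:ℤ) ≤ 4) |>.1 this
  · rw [← Finset.sum_subset (Finset.subset_univ ({a, b} : Finset GolayPt)) (fun i _ hi => by
      simp only [Finset.mem_insert, Finset.mem_singleton, not_or] at hi
      exact h0 i hi.1 hi.2), Finset.sum_pair hab]

/-! ### the standard vector of norm 48 -/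

def uSl : List ℤ := [1, 1, 1, 1, 1, 1, 1, 1, 1, 1, 1, 1, 1, 1, 1, 1, 1, 1, 1, 1, 1, 1, 1, 5]
theorem uSl_ok : chkL (vec uSl) = true := by decide +kernel
def uS : leechLattice := ⟨vec uSl, mem_of_chk uSl_ok⟩
theorem uSl_val : ∀ i, vec uSl i = if i = none then 5 else 1 := by decide +kernel
theorem uS_val (i : GolayPt) : (uS : GolayPt → ℤ) i = if i = none then 5 else 1 := uSl_val i
theorem uS_norm : sqNorm (uS : GolayPt → ℤ) = 48 := sq_vec _ _ (by decide +kernel)

theorem uS_dot (x : GolayPt → ℤ) : dotInt (uS : GolayPt → ℤ) x = 4 * x none + ∑ i, x i := by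
  unfold dotInt
  have : ∀ i, (uS : GolayPt → ℤ) i * x i = (if i = none then 4 * x i else 0) + x i := by
    intro i; rw [uS_val]; split_ifs <;> ring
  rw [Finset.sum_congr rfl (fun i _ => this i), Finset.sum_add_distrib, Finset.sum_ite_eq']
  simp

theorem eq_of_perm {σ : Equiv.Perm GolayPt} (hσ : σ ∈ M24) {x y : leechLattice} (h : ∀ i, (y : GolayPt → ℤ) (σ i) = (x : GolayPt → ℤ) i) :
    mono σ hσ ∅ cd_empty • x = y := by
  apply Subtype.ext
  funext j
  obtain ⟨i, rfl⟩ := σ.surjective j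
  rw [perm_val, h]

theorem perm_uS {σ : Equiv.Perm GolayPt} (hσ : σ ∈ M24) (h0 : σ none = none) : mono σ hσ ∅ cd_empty • uS = uS := by
  apply eq_of_perm
  intro i
  rw [uS_val, uS_val]
  have : σ i = none ↔ i = none := by
    constructor
    · intro h; exact σ.injective (h.trans h0.symm)
    · rintro rfl; exact h0
  by_cases h : i = none
  · rw [if_pos h, if_pos (this.2 h)]
  · rw [if_neg h, if_neg (fun hh => h (this.1 hh))]

/-- existence of a frame vector with given products -/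
def E3 (u y x : leechLattice) (k a l : ℤ) : Prop := ∃ f : leechLattice, sqNorm (f : GolayPt → ℤ) = 64 ∧
  dotInt (u : GolayPt → ℤ) (f : GolayPt → ℤ) = k ∧ dotInt (y : GolayPt → ℤ) (f : GolayPt → ℤ) = a ∧ dotInt (x : GolayPt → ℤ) (f : GolayPt → ℤ) = l

theorem E3.of_smul (g : Co0) {u y x : leechLattice} {k a l : ℤ} (h : E3 (g • u) (g • y) (g • x) k a l) : E3 u y x k a l := by
  obtain ⟨f, h1, h2, h3, h4⟩ := h
  refine ⟨g⁻¹ • f, by rw [sqNorm_smul, h1], ?_, ?_, ?_⟩
  · rw [← dot_smul g, smul_inv_smul, h2]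
  · rw [← dot_smul g, smul_inv_smul, h3]
  · rw [← dot_smul g, smul_inv_smul, h4]

noncomputable def chkF (ul yl xl fl : List ℤ) (k a l : ℤ) : Bool := chkL (vec fl) && decide (sqNorm (vec fl) = 64) && decide (dotInt (vec ul) (vec fl) = k) &&
  decide (dotInt (vec yl) (vec fl) = a) && decide (dotInt (vec xl) (vec fl) = l)

theorem E3_of_chk {ul yl xl fl : List ℤ} {k a l : ℤ} (h : chkF ul yl xl fl k a l = true) {u y x : leechLattice} (hu : (u : GolayPt → ℤ) = vec ul)
    (hy : (y : GolayPt → ℤ) = vec yl) (hx : (x : GolayPt → ℤ) = vec xl) : E3 u y x k a l := by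
  unfold chkF at h
  simp only [Bool.and_eq_true, decide_eq_true_eq] at h
  obtain ⟨⟨⟨⟨h1, h2⟩, h3⟩, h4⟩, h5⟩ := h
  exact ⟨⟨vec fl, mem_of_chk h1⟩, h2, by rw [hu]; exact h3, by rw [hy]; exact h4, by rw [hx]; exact h5⟩

/-! ### types of minimal vectors with inner product -16 -/

theorem types16 {x : leechLattice} (hx : sqNorm (x : GolayPt → ℤ) = 32) (hd : dotInt (uS : GolayPt → ℤ) (x : GolayPt → ℤ) = -16) :
    (∃ O ∈ octads, none ∈ O ∧ ∃ a b, a ∈ O ∧ b ∈ O ∧ a ≠ none ∧ b ≠ none ∧ a ≠ b ∧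
      ∀ i, (x : GolayPt → ℤ) i = if i ∈ O then (if i = a ∨ i = b then 2 else -2) else 0) ∨
    (∃ O ∈ octads, none ∉ O ∧ ∀ i, (x : GolayPt → ℤ) i = if i ∈ O then -2 else 0) ∨
    ((x : GolayPt → ℤ) none = -4) ∨
    (∃ D ∈ dodecads, none ∉ D ∧ ∀ i, (x : GolayPt → ℤ) i = if i = none then -3 else if i ∈ D then -1 else 1) ∨
    (∃ O ∈ octads, none ∉ O ∧ ∃ p ∈ O, ∀ i, (x : GolayPt → ℤ) i = if i = p then -3 else if i ∈ O then 1 else -1) := by
  rw [uS_dot] at hd
  rcases shapes32 x.2 hx with h | h | h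
  · obtain ⟨C, hC, r, c, hc, hv, hs⟩ := oddT h
    rw [hs] at hd
    have hn := hv none
    unfold ind at hn
    right; right; right
    by_cases hr : none = r
    · rw [if_pos hr] at hn
      rcases hc with ⟨rfl, hrC⟩ | ⟨rfl, hrC⟩
      · rw [← hr] at hrC
        rw [if_pos hrC] at hn
        rcases cd_card hC with h | h | h | h | h <;> omega
      · rw [← hr] at hrC
        rw [if_neg hrC] at hn
        left
        refine ⟨C, ⟨hC, by rcases cd_card hC with h | h | h | h | h <;> omega⟩, hrC, fun i => ?_⟩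
        rw [hv i]
        unfold ind
        by_cases hi : i = none
        · rw [if_pos hi, hi, if_neg hrC, if_pos hr]; norm_num
        · rw [if_neg hi, if_neg (show ¬ i = r from fun h => hi (h.trans hr.symm))]; split_ifs <;> norm_num
    · rw [if_neg hr] at hn
      right
      have hnC : none ∈ C := by
        by_contra hh
        rw [if_neg hh] at hn
        have : C.card ≠ 24 := by
          intro h24
          have : C = Finset.univ := Finset.eq_univ_of_card C (by rw [h24, card_pt])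
          rw [this] at hh; exact hh (Finset.mem_univ _)
        rcases cd_card hC with h | h | h | h | h <;> omega
      rw [if_pos hnC] at hn
      rcases hc with ⟨rfl, hrC⟩ | ⟨rfl, hrC⟩
      · rcases cd_card hC with h | h | h | h | h <;> omega
      · have h16 : C.card = 16 := by omega
        refine ⟨Cᶜ, ⟨cd_compl hC, by rw [Finset.card_compl, card_pt, h16]⟩, fun h => Finset.mem_compl.1 h hnC, r, Finset.mem_compl.2 hrC, fun i => ?_⟩
        rw [hv i]
        unfold ind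
        by_cases hi : i = r
        · rw [if_pos hi, if_pos hi, hi, if_neg hrC]; norm_num
        · rw [if_neg hi, if_neg hi]
          by_cases h2 : i ∈ C
          · rw [if_pos h2, if_neg (fun h => Finset.mem_compl.1 h h2)]; norm_num
          · rw [if_neg h2, if_pos (Finset.mem_compl.2 h2)]; norm_num
  · obtain ⟨a, b, hab, ha, hb, h0, hs⟩ := twoT h
    right; right; left
    rw [hs] at hd
    by_cases hna : none = a
    · rw [hna] at hd ⊢; omega
    · by_cases hnb : none = b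
      · rw [hnb] at hd ⊢; omega
      · rw [h0 none hna hnb] at hd; omega
  · obtain ⟨O, hO, M, hM, hv, hs⟩ := octT h
    rw [hs] at hd
    have hn := hv none
    have hMc := Finset.card_le_card hM
    rw [octad_card hO] at hMc
    unfold ind at hn
    by_cases hnO : none ∈ O
    · rw [if_pos hnO] at hn
      by_cases hnM : none ∈ M
      · rw [if_pos hnM] at hn
        left
        have h6 : (O \ M).card = 2 := by rw [Finset.card_sdiff_of_subset hM, octad_card hO]; omega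
        obtain ⟨a, b, hab, hAB⟩ := Finset.card_eq_two.1 h6
        have ha : a ∈ O \ M := by rw [hAB]; simp
        have hb : b ∈ O \ M := by rw [hAB]; simp
        rw [Finset.mem_sdiff] at ha hb
        refine ⟨O, hO, hnO, a, b, ha.1, hb.1, by rintro rfl; exact ha.2 hnM, by rintro rfl; exact hb.2 hnM, hab, fun i => ?_⟩
        rw [hv i]
        unfold ind
        by_cases hi : i ∈ O
        · rw [if_pos hi, if_pos hi]
          have h7 : (i = a ∨ i = b) ↔ i ∉ M := by
            have : i ∈ O \ M ↔ i = a ∨ i = b := by rw [hAB]; simp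
            rw [← this, Finset.mem_sdiff]; simp [hi]
          by_cases h8 : i ∈ M
          · rw [if_pos h8, if_neg (fun h => h7.1 h h8)]; norm_num
          · rw [if_neg h8, if_pos (h7.2 h8)]; norm_num
        · rw [if_neg hi, if_neg hi, if_neg (fun h => hi (hM h))]; norm_num
      · rw [if_neg hnM] at hn; omega
    · rw [if_neg hnO, if_neg (fun h => hnO (hM h))] at hn
      right; left
      have hMO : M = O := Finset.eq_of_subset_of_card_le hM (by rw [octad_card hO]; omega)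
      refine ⟨O, hO, hnO, fun i => ?_⟩
      rw [hv i, hMO]
      unfold ind
      split_ifs <;> norm_num

/-! ### representatives -/

def O1m : ℕ := 13062145
def O2m : ℕ := 4845570
def D4m : ℕ := 8245261
theorem D4m_ : True := trivial
theorem O1m_mem : S O1m ∈ octads := S_mem_octads (by decide +kernel) (by decide +kernel)
theorem O2m_mem : S O2m ∈ octads := S_mem_octads (by decide +kernel) (by decide +kernel)

theorem oct3 {O O' : Finset GolayPt} (hO : O ∈ octads) (hO' : O' ∈ octads) {a b a' b' : GolayPt} (h0 : none ∈ O) (h0' : none ∈ O')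
    (ha : a ∈ O) (hb : b ∈ O) (ha' : a' ∈ O') (hb' : b' ∈ O') (ha0 : a ≠ none) (hb0 : b ≠ none) (hab : a ≠ b)
    (ha0' : a' ≠ none) (hb0' : b' ≠ none) (hab' : a' ≠ b') : ∃ σ ∈ M24, σ • O = O' ∧ σ none = none ∧ σ a = a' ∧ σ b = b' := by
  obtain ⟨g, hg, h1, h2⟩ := oct_frame 3 (by norm_num) hO (fun n => if n = 0 then none else if n = 1 then a else b)
    (fun i hi => by interval_cases i <;> simp [h0, ha, hb]) (fun i hi j hj => by
      interval_cases i
      · omega
      · interval_cases j; simpa using ha0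
      · interval_cases j
        · simpa using hb0
        · simpa using hab.symm)
  obtain ⟨k, hk, h3, h4⟩ := oct_frame 3 (by norm_num) hO' (fun n => if n = 0 then none else if n = 1 then a' else b')
    (fun i hi => by interval_cases i <;> simp [h0', ha', hb']) (fun i hi j hj => by
      interval_cases i
      · omega
      · interval_cases j; simpa using ha0'
      · interval_cases j
        · simpa using hb0'
        · simpa using hab'.symm)
  refine ⟨k⁻¹ * g, join hg hk, by rw [mul_smul, h1, ← h3, inv_smul_smul], ?_, ?_, ?_⟩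
  · have e1 := h2 0 (by norm_num)
    have e2 := h4 0 (by norm_num)
    simp only [if_true] at e1 e2
    rw [Equiv.Perm.mul_apply, e1, ← e2]; simp
  · have e1 := h2 1 (by norm_num)
    have e2 := h4 1 (by norm_num)
    simp only [one_ne_zero, if_false, if_true] at e1 e2
    rw [Equiv.Perm.mul_apply, e1, ← e2]; simp
  · have e1 := h2 2 (by norm_num)
    have e2 := h4 2 (by norm_num)
    simp only [OfNat.ofNat_ne_zero, OfNat.ofNat_ne_one, if_false] at e1 e2
    rw [Equiv.Perm.mul_apply, e1, ← e2]; simp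

theorem octp {O O' : Finset GolayPt} (hO : O ∈ octads) (hO' : O' ∈ octads) {p p' : GolayPt} (h0 : none ∉ O) (h0' : none ∉ O')
    (hp : p ∈ O) (hp' : p' ∈ O') : ∃ σ ∈ M24, σ • O = O' ∧ σ none = none ∧ σ p = p' := by
  obtain ⟨g, hg, h1, h2, h5⟩ := oct_frame' 1 (by norm_num) hO (fun _ => p) (fun _ _ => hp) (fun i hi j hj => by omega) h0
  obtain ⟨k, hk, h3, h4, h6⟩ := oct_frame' 1 (by norm_num) hO' (fun _ => p') (fun _ _ => hp') (fun i hi j hj => by omega) h0'
  refine ⟨k⁻¹ * g, join hg hk, by rw [mul_smul, h1, ← h3, inv_smul_smul], ?_, ?_⟩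
  · rw [Equiv.Perm.mul_apply, h5, ← h6]; simp
  · rw [Equiv.Perm.mul_apply, h2 0 (by norm_num), ← h4 0 (by norm_num)]; simp

def x1l : List ℤ := [2, 0, 0, 0, 0, 0, 0, 0, 0, 0, 0, 0, 2, 0, -2, 0, -2, -2, -2, 0, 0, 0, -2, -2]
def y1l : List ℤ := [-3, 1, 1, 1, 1, 1, 1, 1, 1, 1, 1, 1, -3, 1, 1, 1, 1, 1, 1, 1, 1, 1, 1, 5]
def x2l : List ℤ := [0, -2, 0, 0, 0, 0, 0, 0, 0, 0, 0, 0, -2, -2, -2, -2, -2, 0, 0, -2, 0, 0, -2, 0]
def y2l : List ℤ := [-1, 1, 1, 1, 1, 1, 1, 1, 1, 1, 1, 1, 3, 1, 3, 1, 3, -1, -1, 1, 1, 1, 3, 3]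
def x4l : List ℤ := [-1, 1, -1, -1, 1, 1, 1, 1, 1, 1, 1, 1, -1, 1, -1, -1, -1, 1, -1, -1, -1, -1, -1, -3]
def y4l : List ℤ := [1, -1, 3, 1, -1, -1, -1, -1, 1, 1, 1, 1, 1, 1, 1, 1, 1, -1, 1, 1, 1, 1, 3, 5]
def x5l : List ℤ := [-1, -3, -1, -1, -1, -1, -1, -1, -1, -1, -1, -1, 1, 1, 1, 1, 1, -1, -1, 1, -1, -1, 1, -1]
def y5l : List ℤ := [1, 3, 1, 1, 1, 1, 1, 1, 1, 1, 1, 1, -1, -1, -1, -1, -1, 1, 1, 3, 1, 1, -1, 5]
theorem x1l_ok : chkL (vec x1l) = true := by decide +kernel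
theorem x2l_ok : chkL (vec x2l) = true := by decide +kernel
theorem x4l_ok : chkL (vec x4l) = true := by decide +kernel
theorem x5l_ok : chkL (vec x5l) = true := by decide +kernel
theorem x1l_val : ∀ i, vec x1l i = if i ∈ S O1m then (if i = pt 0 ∨ i = pt 12 then 2 else -2) else 0 := by decide +kernel
theorem x2l_val : ∀ i, vec x2l i = if i ∈ S O2m then -2 else 0 := by decide +kernel
theorem x4l_val : ∀ i, vec x4l i = if i = none then -3 else if i ∈ S D4m then -1 else 1 := by decide +kernel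
theorem x5l_val : ∀ i, vec x5l i = if i = pt 1 then -3 else if i ∈ S O2m then 1 else -1 := by decide +kernel
theorem y1_ok : chkF uSl uSl x1l y1l 40 40 (-32) = true := by decide +kernel
theorem y2_ok : chkF uSl uSl x2l y2l 40 40 (-32) = true := by decide +kernel
theorem y4_ok : chkF uSl uSl x4l y4l 40 40 (-32) = true := by decide +kernel
theorem y5_ok : chkF uSl uSl x5l y5l 40 40 (-32) = true := by decide +kernel
theorem D4m_mem : S D4m ∈ dodecads := S_mem_dodecads (by decide +kernel) (by decide +kernel)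
theorem O1m_in : none ∈ S O1m ∧ pt 0 ∈ S O1m ∧ pt 12 ∈ S O1m ∧ (pt 0 : GolayPt) ≠ none ∧ (pt 12 : GolayPt) ≠ none ∧ (pt 0 : GolayPt) ≠ pt 12 := by decide +kernel
theorem O2m_out : none ∉ S O2m ∧ pt 1 ∈ S O2m := by decide +kernel
theorem D4m_out : none ∉ S D4m := by decide +kernel

theorem exists16 {x : leechLattice} (hx : sqNorm (x : GolayPt → ℤ) = 32) (hd : dotInt (uS : GolayPt → ℤ) (x : GolayPt → ℤ) = -16) :
    E3 uS uS x 40 40 (-32) := by
  have red : ∀ {σ : Equiv.Perm GolayPt} (hσ : σ ∈ M24), σ none = none → ∀ {xl yl : List ℤ}, chkL (vec xl) = true →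
      chkF uSl uSl xl yl 40 40 (-32) = true → (∀ i, vec xl (σ i) = (x : GolayPt → ℤ) i) → E3 uS uS x 40 40 (-32) := by
    intro σ hσ h0 xl yl hxl hyl hv
    apply E3.of_smul (mono σ hσ ∅ cd_empty)
    rw [perm_uS hσ h0, eq_of_perm hσ (y := ⟨vec xl, mem_of_chk hxl⟩) hv]
    exact E3_of_chk hyl rfl rfl rfl
  have hnn : ∀ {σ : Equiv.Perm GolayPt}, σ none = none → ∀ i, σ i = none ↔ i = none := by
    intro σ h0 i
    exact ⟨fun h => σ.injective (h.trans h0.symm), fun h => by rw [h, h0]⟩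
  rcases types16 hx hd with ⟨O, hO, h0, a, b, ha, hb, ha0, hb0, hab, hv⟩ | ⟨O, hO, h0, hv⟩ | h4 | ⟨D, hD, h0, hv⟩ | ⟨O, hO, h0, p, hp, hv⟩
  · obtain ⟨k1, k2, k3, k4, k5, k6⟩ := O1m_in
    obtain ⟨σ, hσ, e1, e2, e3, e4⟩ := oct3 hO O1m_mem h0 k1 ha hb k2 k3 ha0 hb0 hab k4 k5 k6
    refine red hσ e2 x1l_ok y1_ok fun i => ?_
    rw [x1l_val, hv, ← e1, ← e3, ← e4]
    have m1 := mem_smul_iff' (rfl : σ • O = σ • O) i
    simp only [m1, σ.injective.eq_iff]
  · obtain ⟨k1, k2⟩ := O2m_out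
    obtain ⟨σ, hσ, e1, e2⟩ := oct_out_trans hO O2m_mem h0 k1
    refine red hσ e2 x2l_ok y2_ok fun i => ?_
    rw [x2l_val, hv, ← e1]
    have m1 := mem_smul_iff' (rfl : σ • O = σ • O) i
    simp only [m1]
  · refine ⟨e8 none, e8_norm none, ?_, ?_, ?_⟩
    · rw [dot_e8, uS_val, if_pos rfl]; norm_num
    · rw [dot_e8, uS_val, if_pos rfl]; norm_num
    · rw [dot_e8, h4]; norm_num
  · obtain ⟨σ, hσ, e1, e2⟩ := dod_out_trans hD D4m_mem h0 D4m_out
    refine red hσ e2 x4l_ok y4_ok fun i => ?_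
    rw [x4l_val, hv, ← e1]
    have m1 := mem_smul_iff' (rfl : σ • D = σ • D) i
    simp only [m1, hnn e2]
  · obtain ⟨k1, k2⟩ := O2m_out
    obtain ⟨σ, hσ, e1, e2, e3⟩ := octp hO O2m_mem h0 k1 hp k2
    refine red hσ e2 x5l_ok y5_ok fun i => ?_
    rw [x5l_val, hv, ← e1, ← e3]
    have m1 := mem_smul_iff' (rfl : σ • O = σ • O) i
    simp only [m1, σ.injective.eq_iff]

/-- moving a vector of norm 48 with coordinate 5 and a minimal vector with coordinate 4 -/
theorem finish {y y' s s' : leechLattice} {j j' : GolayPt} {δ δ' : ℤ}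
    (hy0 : (y : GolayPt → ℤ) none = 5) (hy1 : ∀ i, i ≠ none → (y : GolayPt → ℤ) i = 1 ∨ (y : GolayPt → ℤ) i = -1)
    (hy0' : (y' : GolayPt → ℤ) none = 5) (hy1' : ∀ i, i ≠ none → (y' : GolayPt → ℤ) i = 1 ∨ (y' : GolayPt → ℤ) i = -1)
    (hs : Sh s j δ) (hs' : Sh s' j' δ') (hj : j ≠ none) (hj' : j' ≠ none) (hδ : δ = 1 ∨ δ = -1) (hδ' : δ' = 1 ∨ δ' = -1)
    (hd : dotInt (y : GolayPt → ℤ) (s : GolayPt → ℤ) = dotInt (y' : GolayPt → ℤ) (s' : GolayPt → ℤ))
    {σ : Equiv.Perm GolayPt} (hσ : σ ∈ M24) (h0 : σ none = none) (hσj : σ j = j') {c : Finset GolayPt} (hc : c ∈ Cd)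
    (hm : mono 1 M24.one_mem c hc • mono σ hσ ∅ cd_empty • y = y') :
    mono 1 M24.one_mem c hc • mono σ hσ ∅ cd_empty • s = s' := by
  have hval : ∀ i, (y' : GolayPt → ℤ) i = if i ∈ c then -((mono σ hσ ∅ cd_empty • y : leechLattice) : GolayPt → ℤ) i
      else ((mono σ hσ ∅ cd_empty • y : leechLattice) : GolayPt → ℤ) i := by
    intro i
    rw [← hm]
    exact eps_smul hc _ i
  have hx0 : ((mono σ hσ ∅ cd_empty • y : leechLattice) : GolayPt → ℤ) none = 5 := by
    have := perm_val hσ y none; rw [h0] at this; rw [this, hy0]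
  have hc0 : none ∉ c := by
    intro h
    have := hval none
    rw [if_pos h, hx0, hy0'] at this
    norm_num at this
  have h1 := mono_sh hσ cd_empty (δ' := δ) h0 hσj hj' (Finset.notMem_empty _) (by rw [if_neg (Finset.notMem_empty _)]) hs
  have h2 := mono_sh M24.one_mem hc (δ' := if j' ∈ c then -δ else δ) (rfl : (1 : Equiv.Perm GolayPt) none = none) (rfl : (1 : Equiv.Perm GolayPt) j' = j') hj' hc0 rfl h1
  have h3 := h2.dot hj' (y' : GolayPt → ℤ)
  have h4 := hs'.dot hj' (y' : GolayPt → ℤ)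
  rw [← hm, dot_smul, dot_smul, hm, hd] at h3
  have h5 : (if j' ∈ c then -δ else δ) = δ' := by
    have h6 := hy1' j' hj'
    rw [h3] at h4
    rcases h6 with h | h <;> rw [h] at h4 <;> omega
  rw [h5] at h2
  exact h2.unique hs'

/-- the monomial element matching two vectors of norm 48 -/
theorem match48 {y y' : leechLattice}
    (hy0 : (y : GolayPt → ℤ) none = 5) (hy1 : ∀ i, i ≠ none → (y : GolayPt → ℤ) i = 1 ∨ (y : GolayPt → ℤ) i = -1)
    (hy0' : (y' : GolayPt → ℤ) none = 5) (hy1' : ∀ i, i ≠ none → (y' : GolayPt → ℤ) i = 1 ∨ (y' : GolayPt → ℤ) i = -1)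
    {σ : Equiv.Perm GolayPt} (hσ : σ ∈ M24) (h0 : σ none = none) : ∃ c, ∃ hc : c ∈ Cd,
    mono 1 M24.one_mem c hc • mono σ hσ ∅ cd_empty • y = y' := by
  have hx : ∀ i, ((mono σ hσ ∅ cd_empty • y : leechLattice) : GolayPt → ℤ) (σ i) = (y : GolayPt → ℤ) i := perm_val hσ _
  have hx0 : ((mono σ hσ ∅ cd_empty • y : leechLattice) : GolayPt → ℤ) none = 5 := by
    have := hx none; rw [h0] at this; rw [this, hy0]
  have hx1 : ∀ i, i ≠ none → ((mono σ hσ ∅ cd_empty • y : leechLattice) : GolayPt → ℤ) i = 1 ∨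
      ((mono σ hσ ∅ cd_empty • y : leechLattice) : GolayPt → ℤ) i = -1 := by
    intro i hi
    obtain ⟨k, rfl⟩ := σ.surjective i
    rw [hx]
    exact hy1 k (by rintro rfl; exact hi h0)
  obtain ⟨c, hc, hmaps⟩ := sign_odd (mono σ hσ ∅ cd_empty • y : leechLattice).2 y'.2 (fun i => by
    by_cases hi : i = none
    · rw [hi, hx0, hy0']
    · rcases hx1 i hi with h | h <;> rcases hy1' i hi with h' | h' <;> rw [h, h'] <;> norm_num) (fun i => by
    by_cases hi : i = none
    · rw [hi, hx0]; norm_num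
    · rcases hx1 i hi with h | h <;> rw [h] <;> norm_num)
  exact ⟨c, hc, Subtype.ext hmaps.eq⟩

theorem pair48 {u x u' x' : leechLattice} (hu : sqNorm (u : GolayPt → ℤ) = 48) (hx : sqNorm (x : GolayPt → ℤ) = 32)
    (hu' : sqNorm (u' : GolayPt → ℤ) = 48) (hx' : sqNorm (x' : GolayPt → ℤ) = 32)
    (hd : dotInt (u : GolayPt → ℤ) (x : GolayPt → ℤ) = -16) (hd' : dotInt (u' : GolayPt → ℤ) (x' : GolayPt → ℤ) = -16) :
    ∃ g : Co0, g • u = u' ∧ g • x = x' := by
  have key : ∀ u x : leechLattice, sqNorm (u : GolayPt → ℤ) = 48 → sqNorm (x : GolayPt → ℤ) = 32 → dotInt (u : GolayPt → ℤ) (x : GolayPt → ℤ) = -16 →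
      ∃ g : Co0, ((g • u : leechLattice) : GolayPt → ℤ) none = 5 ∧ ∃ j, j ≠ none ∧ ∃ δ : ℤ, (δ = 1 ∨ δ = -1) ∧ Sh (-(g • x)) j δ := by
    intro u x hu hx hd
    obtain ⟨g1, hg1⟩ := T48 hu uS_norm
    have hd1 : dotInt (uS : GolayPt → ℤ) ((g1 • x : leechLattice) : GolayPt → ℤ) = -16 := by rw [← hg1, dot_smul, hd]
    obtain ⟨f, hf, h1, _, h3⟩ := exists16 (by rw [sqNorm_smul, hx]) hd1
    obtain ⟨g2, hg2⟩ := T64 f hf
    have h4 := dot_smul g2 uS f
    have h5 := dot_smul g2 (g1 • x) f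
    rw [hg2, dot_e8] at h4 h5
    refine ⟨g2 * g1, ?_, ?_⟩
    · rw [mul_smul, hg1]; omega
    · rw [mul_smul]
      apply sh_of
      · rw [neg_norm, sqNorm_smul, sqNorm_smul, hx]
      · change -((g2 • g1 • x : leechLattice) : GolayPt → ℤ) none = 4
        omega
  obtain ⟨g, hg0, j, hj, δ, hδ, hs⟩ := key u x hu hx hd
  obtain ⟨g', hg0', j', hj', δ', hδ', hs'⟩ := key u' x' hu' hx' hd'
  have hg1 := five_shape (u := g • u) (by rw [sqNorm_smul, hu]) hg0
  have hg1' := five_shape (u := g' • u') (by rw [sqNorm_smul, hu']) hg0'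
  obtain ⟨σ, hσ, hσi⟩ := m24_transOn [none, j] [none, j'] (by simp [hj.symm]) (by simp [hj'.symm]) rfl (by simp) (fun _ _ => Finset.mem_univ _)
    (fun _ _ => Finset.mem_univ _)
  simp only [List.map_cons, List.map_nil, List.cons.injEq, and_true] at hσi
  obtain ⟨h0, hσj⟩ := hσi
  obtain ⟨c, hc, hm⟩ := match48 hg0 hg1 hg0' hg1' hσ h0
  have h6 := finish hg0 hg1 hg0' hg1' hs hs' hj hj' hδ hδ' (by
    rw [dot_comm', neg_dot, dot_comm' (g' • u'), neg_dot, dot_smul, dot_smul, dot_comm' x, dot_comm' x', hd, hd']) hσ h0 hσj hc hm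
  rw [smul_neg', smul_neg'] at h6
  have h7 := neg_injective h6
  refine ⟨g'⁻¹ * (mono 1 M24.one_mem c hc * (mono σ hσ ∅ cd_empty * g)), ?_, ?_⟩
  · rw [mul_smul, mul_smul, mul_smul, hm, inv_smul_smul]
  · rw [mul_smul, mul_smul, mul_smul, h7, inv_smul_smul]

theorem swap48 {v w : leechLattice} (hv : sqNorm (v : GolayPt → ℤ) = 48) (hw : sqNorm (w : GolayPt → ℤ) = 48)
    (hvw : dotInt (v : GolayPt → ℤ) (w : GolayPt → ℤ) = -32) : ∃ g : Co0, g • v = w ∧ g • w = v := by
  have h1 := norm_add v w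
  rw [hv, hw, hvw] at h1
  have h2 := dot_add_right' v v w
  have h3 := dot_add_right' w v w
  rw [dot_self', hv, hvw] at h2
  rw [dot_self', hw, dot_comm' w v, hvw] at h3
  have hneg : ∀ a b : leechLattice, dotInt (a : GolayPt → ℤ) ((-b : leechLattice) : GolayPt → ℤ) = -dotInt (a : GolayPt → ℤ) (b : GolayPt → ℤ) := by
    intro a b; rw [dot_comm' a (-b), neg_dot, dot_comm' b a]
  obtain ⟨g, hg1, hg2⟩ := pair48 (u := v) (x := -(v + w)) (u' := w) (x' := -(v + w)) hv (by rw [neg_norm]; omega) hw (by rw [neg_norm]; omega)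
    (by rw [hneg]; omega) (by rw [hneg]; omega)
  refine ⟨g, hg1, ?_⟩
  rw [smul_neg', smul_add', hg1] at hg2
  have h4 := neg_injective hg2
  have : g • w = (w + g • w) - w := by abel
  rw [this, h4]; abel

end Cfsg.Agent.H9.Leech
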