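import Cfsg.Agent.H9.Leech.Hs
set_option autoImplicit false

/-! The configurations of 100 and of 275 minimal vectors. -/

namespace Cfsg.Agent.H9.Leech
open Cfsg Cfsg.Agent.H9
open scoped Pointwise

/-! ### types of minimal vectors with inner product 24 -/

theorem types24 {x : leechLattice} (hx : sqNorm (x : GolayPt → ℤ) = 32) (hd : dotInt (uS : GolayPt → ℤ) (x : GolayPt → ℤ) = 24) :
    (∃ b, b ≠ none ∧ Sh x b 1) ∨
    (∃ O ∈ octads, none ∈ O ∧ ∀ i, (x : GolayPt → ℤ) i = if i ∈ O then 2 else 0) ∨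
    (∃ r, r ≠ none ∧ ∀ i, (x : GolayPt → ℤ) i = if i = r then -3 else 1) ∨
    (∃ O ∈ octads, none ∈ O ∧ ∀ i, (x : GolayPt → ℤ) i = if i = none then 3 else if i ∈ O then -1 else 1) := by
  rw [uS_dot] at hd
  rcases shapes32 x.2 hx with h | h | h
  · obtain ⟨C, hC, r, c, hc, hv, hs⟩ := oddT h
    rw [hs] at hd
    have hn := hv none
    unfold ind at hn
    right; right
    by_cases hr : none = r
    · right
      rw [if_pos hr] at hn
      rcases hc with ⟨rfl, hrC⟩ | ⟨rfl, hrC⟩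
      · rw [← hr] at hrC
        rw [if_pos hrC] at hn
        refine ⟨C, ⟨hC, by omega⟩, hrC, fun i => ?_⟩
        rw [hv i]
        unfold ind
        by_cases hi : i = none
        · rw [if_pos hi, hi, if_pos hrC, if_pos hr]; norm_num
        · rw [if_neg hi, if_neg (show ¬ i = r from fun h => hi (h.trans hr.symm))]; split_ifs <;> norm_num
      · rw [← hr] at hrC
        rw [if_neg hrC] at hn
        omega
    · rw [if_neg hr] at hn
      left
      by_cases hnC : none ∈ C
      · rw [if_pos hnC] at hn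
        have := Finset.card_pos.2 ⟨none, hnC⟩
        rcases hc with ⟨rfl, hrC⟩ | ⟨rfl, hrC⟩ <;> omega
      · rw [if_neg hnC] at hn
        rcases hc with ⟨rfl, hrC⟩ | ⟨rfl, hrC⟩
        · rcases cd_card hC with h | h | h | h | h <;> omega
        · have h0 : C = ∅ := Finset.card_eq_zero.1 (by omega)
          refine ⟨r, fun h => hr h.symm, fun i => ?_⟩
          rw [hv i, h0]
          unfold ind
          rw [if_neg (Finset.notMem_empty _)]
          split_ifs <;> norm_num
  · obtain ⟨a, b, hab, ha, hb, h0, hs⟩ := twoT h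
    left
    rw [hs] at hd
    by_cases hna : none = a
    · refine ⟨b, fun h => hab (hna.symm.trans h.symm), fun i => ?_⟩
      subst hna
      by_cases h1 : i = none
      · rw [if_pos h1, h1]; omega
      · by_cases h2 : i = b
        · rw [if_neg h1, if_pos h2, h2]; omega
        · rw [if_neg h1, if_neg h2, h0 i h1 h2]
    · by_cases hnb : none = b
      · refine ⟨a, fun h => hab (h.trans hnb), fun i => ?_⟩
        subst hnb
        by_cases h1 : i = none
        · rw [if_pos h1, h1]; omega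
        · by_cases h2 : i = a
          · rw [if_neg h1, if_pos h2, h2]; omega
          · rw [if_neg h1, if_neg h2, h0 i h2 h1]
      · rw [h0 none hna hnb] at hd; omega
  · obtain ⟨O, hO, M, hM, hv, hs⟩ := octT h
    rw [hs] at hd
    have hn := hv none
    unfold ind at hn
    right; left
    by_cases hnO : none ∈ O
    · rw [if_pos hnO] at hn
      by_cases hnM : none ∈ M
      · rw [if_pos hnM] at hn; omega
      · rw [if_neg hnM] at hn
        have h0 : M = ∅ := Finset.card_eq_zero.1 (by omega)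
        refine ⟨O, hO, hnO, fun i => ?_⟩
        rw [hv i, h0]
        unfold ind
        rw [if_neg (Finset.notMem_empty _)]
        split_ifs <;> norm_num
    · rw [if_neg hnO, if_neg (fun h => hnO (hM h))] at hn; omega

/-! ### the vectors -/

theorem vB_mem {O : Finset GolayPt} (hO : O ∈ octads) : (fun i => if i ∈ O then 2 else 0 : GolayPt → ℤ) ∈ leechLattice := by
  have : (fun i => if i ∈ O then 2 else 0 : GolayPt → ℤ) = fun i => 0 + 2 * ind O i + 4 * 0 := by
    funext i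
    unfold ind
    split_ifs <;> norm_num
  rw [this]
  apply mem_of_param hO.1
  simp

theorem vR_mem (r : GolayPt) : (fun i => if i = r then -3 else 1 : GolayPt → ℤ) ∈ leechLattice := by
  have : (fun i => if i = r then -3 else 1 : GolayPt → ℤ) = fun i => 1 + 2 * ind ∅ i + 4 * (Pi.single r (-1) : GolayPt → ℤ) i := by
    funext i
    rw [single_apply']
    unfold ind
    rw [if_neg (Finset.notMem_empty _)]
    split_ifs <;> norm_num
  rw [this]
  apply mem_of_param cd_empty
  rw [sum_single']; norm_num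

theorem vC_mem {O : Finset GolayPt} (hO : O ∈ octads) (h0 : none ∈ O) :
    (fun i => if i = none then 3 else if i ∈ O then -1 else 1 : GolayPt → ℤ) ∈ leechLattice := by
  have : (fun i => if i = none then 3 else if i ∈ O then -1 else 1 : GolayPt → ℤ) = fun i => 1 + 2 * ind O i + 4 * ((Pi.single none 1 : GolayPt → ℤ) i - ind O i) := by
    funext i
    rw [single_apply']
    unfold ind
    by_cases h1 : i = none
    · subst h1; rw [if_pos rfl, if_pos h0, if_pos rfl]; norm_num
    · rw [if_neg h1, if_neg h1]; split_ifs <;> norm_num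
  rw [this]
  apply mem_of_param hO.1
  rw [Finset.sum_sub_distrib, sum_single', sum_ind, octad_card hO]; norm_num

def X24 (x : leechLattice) : Prop := sqNorm (x : GolayPt → ℤ) = 32 ∧ dotInt (uS : GolayPt → ℤ) (x : GolayPt → ℤ) = 24

theorem vA_X {x : leechLattice} {b : GolayPt} (hb : b ≠ none) (h : Sh x b 1) : X24 x := by
  refine ⟨?_, ?_⟩
  · rw [← dotInt_self, h.dot hb, h none, h b, if_pos rfl, if_neg hb, if_pos rfl]; norm_num
  · rw [h.dot hb, uS_val, uS_val, if_pos rfl, if_neg hb]; norm_num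

theorem vB_X {x : leechLattice} {O : Finset GolayPt} (hO : O ∈ octads) (h0 : none ∈ O) (h : ∀ i, (x : GolayPt → ℤ) i = if i ∈ O then 2 else 0) : X24 x := by
  refine ⟨?_, ?_⟩
  · unfold sqNorm
    have : ∀ i, ((x : GolayPt → ℤ) i) ^ 2 = 4 * ind O i := by
      intro i; rw [h]; unfold ind; split_ifs <;> norm_num
    rw [Finset.sum_congr rfl (fun i _ => this i), ← Finset.mul_sum, sum_ind, octad_card hO]; norm_num
  · have : ∀ i, (x : GolayPt → ℤ) i = 2 * ind O i := by
      intro i; rw [h]; unfold ind; split_ifs <;> norm_num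
    rw [uS_dot, Finset.sum_congr rfl (fun i _ => this i), ← Finset.mul_sum, sum_ind, octad_card hO, h, if_pos h0]; norm_num

theorem vR_X {x : leechLattice} {r : GolayPt} (hr : r ≠ none) (h : ∀ i, (x : GolayPt → ℤ) i = if i = r then -3 else 1) : X24 x := by
  refine ⟨?_, ?_⟩
  · unfold sqNorm
    have : ∀ i, ((x : GolayPt → ℤ) i) ^ 2 = 1 + (Pi.single r 8 : GolayPt → ℤ) i := by
      intro i; rw [h, single_apply']; split_ifs <;> norm_num
    rw [Finset.sum_congr rfl (fun i _ => this i), Finset.sum_add_distrib, sum_single', Finset.sum_const, Finset.card_univ, card_pt]; norm_num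
  · have : ∀ i, (x : GolayPt → ℤ) i = 1 + (Pi.single r (-4) : GolayPt → ℤ) i := by
      intro i; rw [h, single_apply']; split_ifs <;> norm_num
    rw [uS_dot, Finset.sum_congr rfl (fun i _ => this i), Finset.sum_add_distrib, sum_single', Finset.sum_const, Finset.card_univ, card_pt, h, if_neg hr.symm]
    norm_num

theorem vC_X {x : leechLattice} {O : Finset GolayPt} (hO : O ∈ octads) (h0 : none ∈ O)
    (h : ∀ i, (x : GolayPt → ℤ) i = if i = none then 3 else if i ∈ O then -1 else 1) : X24 x := by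
  refine ⟨?_, ?_⟩
  · unfold sqNorm
    have : ∀ i, ((x : GolayPt → ℤ) i) ^ 2 = 1 + (Pi.single none 8 : GolayPt → ℤ) i := by
      intro i; rw [h, single_apply']; split_ifs <;> norm_num
    rw [Finset.sum_congr rfl (fun i _ => this i), Finset.sum_add_distrib, sum_single', Finset.sum_const, Finset.card_univ, card_pt]; norm_num
  · have : ∀ i, (x : GolayPt → ℤ) i = (1 - 2 * ind O i) + (Pi.single none 4 : GolayPt → ℤ) i := by
      intro i; rw [h, single_apply']
      unfold ind
      by_cases h1 : i = none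
      · subst h1; rw [if_pos rfl, if_pos h0, if_pos rfl]; norm_num
      · rw [if_neg h1, if_neg h1]; split_ifs <;> norm_num
    rw [uS_dot, Finset.sum_congr rfl (fun i _ => this i), Finset.sum_add_distrib, sum_single', Finset.sum_sub_distrib, ← Finset.mul_sum, sum_ind,
      Finset.sum_const, Finset.card_univ, card_pt, octad_card hO, h, if_pos rfl]
    norm_num

/-! ### counting -/

def NS (a b : ℤ) : Set leechLattice := {x | X24 x ∧ (x : GolayPt → ℤ) none = a ∧ (x : GolayPt → ℤ) (pt 0) = b}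

theorem pt0_ne : (pt 0 : GolayPt) ≠ none := by decide +kernel

theorem NS_fin (a b : ℤ) : (NS a b).Finite := f32.subset fun _ hx => hx.1.1

theorem cntA (c : ℤ) (B : Finset GolayPt) (hB : ∀ b, b ∈ B ↔ b ≠ none ∧ (if pt 0 = b then 4 else 0) = c) : (NS 4 c).ncard = B.card := by
  rw [← Set.ncard_coe_finset]
  symm
  have hval : ∀ b, b ∈ B → Sh (pmv (b, true)) b 1 := fun b hb => by
    have := pmv_val (b, true) ((hB b).1 hb).1
    simpa using this
  refine Set.ncard_congr (fun b _ => pmv (b, true)) ?_ ?_ ?_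
  · intro b hb
    have hb' := (hB b).1 hb
    have hv := hval b hb
    refine ⟨vA_X hb'.1 hv, by rw [hv none, if_pos rfl], ?_⟩
    rw [hv (pt 0), if_neg pt0_ne, ← hb'.2]
    split_ifs <;> norm_num
  · intro a b ha hb h
    have h1 := hval a ha a
    have h2 := hval b hb a
    change pmv (a, true) = pmv (b, true) at h
    rw [h, h2, if_neg ((hB a).1 ha).1, if_neg ((hB a).1 ha).1, if_pos rfl] at h1
    by_contra hne
    rw [if_neg hne] at h1
    norm_num at h1
  · rintro x ⟨hx, h4, hc⟩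
    rcases types24 hx.1 hx.2 with ⟨b, hb, hs⟩ | ⟨O, hO, h0, hv⟩ | ⟨r, hr, hv⟩ | ⟨O, hO, h0, hv⟩
    · have hbB : b ∈ B := by
        rw [hB]
        refine ⟨hb, ?_⟩
        rw [← hc, hs (pt 0), if_neg pt0_ne]
        norm_num
      exact ⟨b, hbB, (hval b hbB).unique hs⟩
    · have := hv none; rw [if_pos h0] at this; omega
    · have := hv none; rw [if_neg hr.symm] at this; omega
    · have := hv none; rw [if_pos rfl] at this; omega

theorem cntR : (NS 1 1).ncard = 22 := by
  have h22 : ((Finset.univ : Finset GolayPt) \ {none, pt 0}).card = 22 := by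
    rw [Finset.card_sdiff_of_subset (Finset.subset_univ _), Finset.card_univ, card_pt, Finset.card_pair pt0_ne.symm]
  rw [← h22, ← Set.ncard_coe_finset]
  symm
  have hm : ∀ r : GolayPt, r ∈ (((Finset.univ : Finset GolayPt) \ {none, pt 0} : Finset GolayPt) : Set GolayPt) → r ≠ none ∧ r ≠ pt 0 := by
    intro r hr
    simpa using hr
  refine Set.ncard_congr (fun r _ => (⟨_, vR_mem r⟩ : leechLattice)) ?_ ?_ ?_
  · intro r hr
    have hr' := hm r hr
    refine ⟨vR_X (r := r) hr'.1 fun i => rfl, ?_, ?_⟩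
    · change (if (none : GolayPt) = r then -3 else 1 : ℤ) = 1
      rw [if_neg hr'.1.symm]
    · change (if (pt 0 : GolayPt) = r then -3 else 1 : ℤ) = 1
      rw [if_neg hr'.2.symm]
  · intro a b ha hb h
    have h1 := congrFun (congrArg (fun v : leechLattice => (v : GolayPt → ℤ)) h) a
    change (if a = a then -3 else 1 : ℤ) = (if a = b then -3 else 1 : ℤ) at h1
    by_contra hne
    rw [if_pos rfl, if_neg hne] at h1
    norm_num at h1
  · rintro x ⟨hx, h4, hc⟩
    rcases types24 hx.1 hx.2 with ⟨b, hb, hs⟩ | ⟨O, hO, h0, hv⟩ | ⟨r, hr, hv⟩ | ⟨O, hO, h0, hv⟩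
    · have := hs none; rw [if_pos rfl] at this; omega
    · have := hv none; rw [if_pos h0] at this; omega
    · refine ⟨r, ?_, Subtype.ext (funext fun i => (hv i).symm)⟩
      have : r ≠ pt 0 := by
        rintro rfl
        have := hv (pt 0); rw [if_pos rfl] at this; omega
      simp [hr, this]
    · have := hv none; rw [if_pos rfl] at this; omega

theorem c77 : (H9.cnt fun k => band (Nat.beq (pc (enc k)) 8) (band (Nat.beq (bt (enc k) 23) 1) (Nat.beq (bt (enc k) 0) 1))) = 77 := by decide +kernel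
theorem c176 : (H9.cnt fun k => band (Nat.beq (pc (enc k)) 8) (band (Nat.beq (bt (enc k) 23) 1) (Nat.beq (bt (enc k) 0) 0))) = 176 := by decide +kernel
theorem pt23 : (pt 23 : GolayPt) = none := by decide +kernel

theorem oct77 : {O | O ∈ octads ∧ (none ∈ O ∧ pt 0 ∈ O)}.ncard = 77 := by
  rw [← c77]
  exact ncard_words _ (fun O => none ∈ O ∧ pt 0 ∈ O) fun k _ => by
    rw [band_iff, mem_test (by norm_num), mem_test (by norm_num), pt23]

theorem oct176 : {O | O ∈ octads ∧ (none ∈ O ∧ pt 0 ∉ O)}.ncard = 176 := by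
  rw [← c176]
  exact ncard_words _ (fun O => none ∈ O ∧ pt 0 ∉ O) fun k _ => by
    rw [band_iff, mem_test (by norm_num), notMem_test (by norm_num), pt23]

theorem cntB : (NS 2 2).ncard = 77 := by
  rw [← oct77]
  symm
  refine Set.ncard_congr (fun O hO => (⟨_, vB_mem hO.1⟩ : leechLattice)) ?_ ?_ ?_
  · rintro O ⟨hO, h0, h1⟩
    refine ⟨vB_X hO h0 fun i => rfl, ?_, ?_⟩
    · change (if none ∈ O then 2 else 0 : ℤ) = 2
      rw [if_pos h0]
    · change (if pt 0 ∈ O then 2 else 0 : ℤ) = 2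
      rw [if_pos h1]
  · rintro O O' _ _ h
    ext i
    have h1 := congrFun (congrArg (fun v : leechLattice => (v : GolayPt → ℤ)) h) i
    change (if i ∈ O then 2 else 0 : ℤ) = (if i ∈ O' then 2 else 0 : ℤ) at h1
    by_cases h2 : i ∈ O <;> by_cases h3 : i ∈ O' <;> simp [h2, h3] at h1 ⊢
  · rintro x ⟨hx, h4, hc⟩
    rcases types24 hx.1 hx.2 with ⟨b, hb, hs⟩ | ⟨O, hO, h0, hv⟩ | ⟨r, hr, hv⟩ | ⟨O, hO, h0, hv⟩
    · have := hs none; rw [if_pos rfl] at this; omega
    · refine ⟨O, ⟨hO, h0, ?_⟩, Subtype.ext (funext fun i => (hv i).symm)⟩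
      by_contra hh
      have := hv (pt 0); rw [if_neg hh] at this; omega
    · have := hv none; rw [if_neg hr.symm] at this; omega
    · have := hv none; rw [if_pos rfl] at this; omega

theorem cntC : (NS 3 1).ncard = 176 := by
  rw [← oct176]
  symm
  refine Set.ncard_congr (fun O hO => (⟨_, vC_mem hO.1 hO.2.1⟩ : leechLattice)) ?_ ?_ ?_
  · rintro O ⟨hO, h0, h1⟩
    refine ⟨vC_X hO h0 fun i => rfl, ?_, ?_⟩
    · change (if (none : GolayPt) = none then 3 else if none ∈ O then -1 else 1 : ℤ) = 3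
      rw [if_pos rfl]
    · change (if (pt 0 : GolayPt) = none then 3 else if pt 0 ∈ O then -1 else 1 : ℤ) = 1
      rw [if_neg pt0_ne, if_neg h1]
  · rintro O O' hO hO' h
    ext i
    have h1 := congrFun (congrArg (fun v : leechLattice => (v : GolayPt → ℤ)) h) i
    change (if i = none then 3 else if i ∈ O then -1 else 1 : ℤ) = (if i = none then 3 else if i ∈ O' then -1 else 1 : ℤ) at h1
    by_cases hi : i = none
    · subst hi
      exact ⟨fun _ => hO'.2.1, fun _ => hO.2.1⟩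
    · rw [if_neg hi, if_neg hi] at h1
      by_cases h2 : i ∈ O <;> by_cases h3 : i ∈ O' <;> simp [h2, h3] at h1 ⊢
  · rintro x ⟨hx, h4, hc⟩
    rcases types24 hx.1 hx.2 with ⟨b, hb, hs⟩ | ⟨O, hO, h0, hv⟩ | ⟨r, hr, hv⟩ | ⟨O, hO, h0, hv⟩
    · have := hs none; rw [if_pos rfl] at this; omega
    · have := hv none; rw [if_pos h0] at this; omega
    · have := hv none; rw [if_neg hr.symm] at this; omega
    · refine ⟨O, ⟨hO, h0, ?_⟩, Subtype.ext (funext fun i => (hv i).symm)⟩
      intro hh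
      have := hv (pt 0); rw [if_neg pt0_ne, if_pos hh] at this; omega

theorem three_sets {α : Type*} {A B C : Set α} (hA : A.Finite) (hB : B.Finite) (hC : C.Finite) (h1 : Disjoint A B) (h2 : Disjoint A C) (h3 : Disjoint B C) :
    (A ∪ B ∪ C).ncard = A.ncard + B.ncard + C.ncard := by
  rw [Set.ncard_union_eq (Set.disjoint_union_left.2 ⟨h2, h3⟩) (hA.union hB) hC, Set.ncard_union_eq h1 hA hB]

theorem NS_disj {a b a' b' : ℤ} (h : a ≠ a') : Disjoint (NS a b) (NS a' b') := by
  rw [Set.disjoint_left]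
  rintro x ⟨_, h1, _⟩ ⟨_, h2, _⟩
  exact h (h1.symm.trans h2)

theorem hs100 : {x : leechLattice | X24 x ∧ (x : GolayPt → ℤ) none = (x : GolayPt → ℤ) (pt 0)}.ncard = 100 := by
  have h : {x : leechLattice | X24 x ∧ (x : GolayPt → ℤ) none = (x : GolayPt → ℤ) (pt 0)} = NS 4 4 ∪ NS 2 2 ∪ NS 1 1 := by
    ext x
    constructor
    · rintro ⟨hx, he⟩
      rcases types24 hx.1 hx.2 with ⟨b, hb, hs⟩ | ⟨O, hO, h0, hv⟩ | ⟨r, hr, hv⟩ | ⟨O, hO, h0, hv⟩
      · have := hs none; rw [if_pos rfl] at this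
        exact Or.inl (Or.inl ⟨hx, this, by omega⟩)
      · have := hv none; rw [if_pos h0] at this
        exact Or.inl (Or.inr ⟨hx, this, by omega⟩)
      · have := hv none; rw [if_neg hr.symm] at this
        exact Or.inr ⟨hx, this, by omega⟩
      · have := hv none; rw [if_pos rfl] at this
        have h2 := hv (pt 0); rw [if_neg pt0_ne] at h2
        split_ifs at h2 <;> omega
    · rintro ((⟨hx, h1, h2⟩ | ⟨hx, h1, h2⟩) | ⟨hx, h1, h2⟩) <;> exact ⟨hx, h1.trans h2.symm⟩
  rw [h, three_sets (NS_fin _ _) (NS_fin _ _) (NS_fin _ _) (NS_disj (by norm_num)) (NS_disj (by norm_num)) (NS_disj (by norm_num)), cntB, cntR,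
    cntA 4 {pt 0} (fun b => by
      rw [Finset.mem_singleton]
      constructor
      · rintro rfl; exact ⟨pt0_ne, if_pos rfl⟩
      · rintro ⟨_, h⟩
        by_contra hne
        rw [if_neg (fun h => hne h.symm)] at h
        norm_num at h), Finset.card_singleton]

theorem mc275 : {x : leechLattice | X24 x ∧ (x : GolayPt → ℤ) none + (x : GolayPt → ℤ) (pt 0) = 4}.ncard = 275 := by
  have h : {x : leechLattice | X24 x ∧ (x : GolayPt → ℤ) none + (x : GolayPt → ℤ) (pt 0) = 4} = NS 4 0 ∪ NS 2 2 ∪ NS 3 1 := by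
    ext x
    constructor
    · rintro ⟨hx, he⟩
      rcases types24 hx.1 hx.2 with ⟨b, hb, hs⟩ | ⟨O, hO, h0, hv⟩ | ⟨r, hr, hv⟩ | ⟨O, hO, h0, hv⟩
      · have := hs none; rw [if_pos rfl] at this
        exact Or.inl (Or.inl ⟨hx, this, by omega⟩)
      · have := hv none; rw [if_pos h0] at this
        exact Or.inl (Or.inr ⟨hx, this, by omega⟩)
      · have := hv none; rw [if_neg hr.symm] at this
        have h2 := hv (pt 0)
        split_ifs at h2 <;> omega
      · have := hv none; rw [if_pos rfl] at this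
        exact Or.inr ⟨hx, this, by omega⟩
    · rintro ((⟨hx, h1, h2⟩ | ⟨hx, h1, h2⟩) | ⟨hx, h1, h2⟩) <;> exact ⟨hx, by rw [h1, h2]; norm_num⟩
  rw [h, three_sets (NS_fin _ _) (NS_fin _ _) (NS_fin _ _) (NS_disj (by norm_num)) (NS_disj (by norm_num)) (NS_disj (by norm_num)), cntB, cntC,
    cntA 0 (Finset.univ \ {none, pt 0}) (fun b => by
      rw [Finset.mem_sdiff, Finset.mem_insert, Finset.mem_singleton]
      constructor
      · rintro ⟨_, h⟩
        exact ⟨fun hh => h (Or.inl hh), if_neg (fun hh => h (Or.inr hh.symm))⟩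
      · rintro ⟨h1, h⟩
        refine ⟨Finset.mem_univ _, ?_⟩
        rintro (hh | hh)
        · exact h1 hh
        · rw [if_pos hh.symm] at h
          norm_num at h), Finset.card_sdiff_of_subset (Finset.subset_univ _), Finset.card_univ, card_pt, Finset.card_pair pt0_ne.symm]

/-! ### existence of a frame -/

def ySl : List ℤ := [-4, 0, 0, 0, 0, 0, 0, 0, 0, 0, 0, 0, 0, 0, 0, 0, 0, 0, 0, 0, 0, 0, 0, 4]
def vSl : List ℤ := [4, 0, 0, 0, 0, 0, 0, 0, 0, 0, 0, 0, 0, 0, 0, 0, 0, 0, 0, 0, 0, 0, 0, 4]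
theorem ySl_ok : chkL (vec ySl) = true := by decide +kernel
theorem vSl_ok : chkL (vec vSl) = true := by decide +kernel
def yS : leechLattice := ⟨vec ySl, mem_of_chk ySl_ok⟩
def vS : leechLattice := ⟨vec vSl, mem_of_chk vSl_ok⟩
theorem yS_sh : Sh yS (pt 0) (-1) := by
  have : ∀ i, vec ySl i = if i = none then 4 else if i = pt 0 then 4 * (-1) else 0 := by decide +kernel
  exact this
theorem vS_sh : Sh vS (pt 0) 1 := by
  have : ∀ i, vec vSl i = if i = none then 4 else if i = pt 0 then 4 * 1 else 0 := by decide +kernel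
  exact this

theorem perm_sh {σ : Equiv.Perm GolayPt} (hσ : σ ∈ M24) (h0 : σ none = none) (h1 : σ (pt 0) = pt 0) {s : leechLattice} {δ : ℤ} (hs : Sh s (pt 0) δ) :
    mono σ hσ ∅ cd_empty • s = s :=
  (mono_sh hσ cd_empty h0 h1 pt0_ne (Finset.notMem_empty _) (by rw [if_neg (Finset.notMem_empty _)]) hs).unique hs

def O3m : ℕ := 13938692
theorem O3m_mem : S O3m ∈ octads := S_mem_octads (by decide +kernel) (by decide +kernel)
theorem O3m_in : none ∈ S O3m ∧ pt 0 ∉ S O3m := by decide +kernel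

theorem oct2 {O O' : Finset GolayPt} (hO : O ∈ octads) (hO' : O' ∈ octads) (h0 : none ∈ O) (h1 : pt 0 ∈ O) (h0' : none ∈ O') (h1' : pt 0 ∈ O') :
    ∃ σ ∈ M24, σ • O = O' ∧ σ none = none ∧ σ (pt 0) = pt 0 := by
  have key : ∀ O ∈ octads, ∃ b ∈ O, b ≠ none ∧ b ≠ pt 0 := by
    intro O hO
    by_contra hh
    push Not at hh
    have h2 : O ⊆ {none, pt 0} := by
      intro b hb
      rw [Finset.mem_insert, Finset.mem_singleton]
      by_cases h : b = none
      · exact Or.inl h
      · exact Or.inr (hh b hb h)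
    have h3 := Finset.card_le_card h2
    have h4 := Finset.card_le_two (a := (none : GolayPt)) (b := pt 0)
    have h5 := octad_card hO
    omega
  obtain ⟨b, hb, hb0, hb1⟩ := key O hO
  obtain ⟨b', hb', hb0', hb1'⟩ := key O' hO'
  obtain ⟨σ, hσ, e1, e2, e3, _⟩ := oct3 hO hO' h0 h0' h1 hb h1' hb' pt0_ne hb0 hb1.symm pt0_ne hb0' hb1'.symm
  exact ⟨σ, hσ, e1, e2, e3⟩

theorem octq {O O' : Finset GolayPt} (hO : O ∈ octads) (hO' : O' ∈ octads) (h0 : none ∈ O) (h1 : pt 0 ∉ O) (h0' : none ∈ O') (h1' : pt 0 ∉ O') :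
    ∃ σ ∈ M24, σ • O = O' ∧ σ none = none ∧ σ (pt 0) = pt 0 := by
  obtain ⟨g, hg, h2, h3, h4⟩ := oct_frame' 1 (by norm_num) hO (fun _ => none) (fun _ _ => h0) (fun i hi j hj => by omega) h1
  obtain ⟨k, hk, h5, h6, h7⟩ := oct_frame' 1 (by norm_num) hO' (fun _ => none) (fun _ _ => h0') (fun i hi j hj => by omega) h1'
  refine ⟨k⁻¹ * g, join hg hk, by rw [mul_smul, h2, ← h5, inv_smul_smul], ?_, ?_⟩
  · rw [Equiv.Perm.mul_apply, h3 0 (by norm_num), ← h6 0 (by norm_num)]; simp
  · rw [Equiv.Perm.mul_apply, h4, ← h7]; simp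

def xBl : List ℤ := [2, 0, 0, 0, 0, 0, 0, 0, 0, 0, 0, 0, 2, 0, 2, 0, 2, 2, 2, 0, 0, 0, 2, 2]
def fHB : List ℤ := [-2, 0, 0, 0, 0, 0, 0, 0, 0, 0, 0, 0, 2, 0, 2, 0, 2, 2, 2, 0, 0, 0, 2, 6]
def xRl : List ℤ := [1, -3, 1, 1, 1, 1, 1, 1, 1, 1, 1, 1, 1, 1, 1, 1, 1, 1, 1, 1, 1, 1, 1, 1]
def fHR : List ℤ := [-3, -3, 1, 1, 1, 1, 1, 1, 1, 1, 1, 1, 1, 1, 1, 1, 1, 1, 1, 1, 1, 1, 1, 5]
def fMB : List ℤ := [3, -1, -1, -1, 1, 1, 1, 1, 1, 1, 1, 1, 1, -1, 1, 1, 1, 1, 3, 1, -1, -1, 1, 5]
def xCl : List ℤ := [1, 1, -1, 1, 1, 1, 1, 1, 1, 1, 1, 1, -1, -1, 1, -1, 1, 1, -1, 1, -1, 1, -1, 3]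
def fMC : List ℤ := [3, 1, -1, 1, 1, 1, 1, 1, 1, 1, 1, 1, 1, -1, -1, -1, -1, 3, 1, 1, -1, 1, 1, 5]
theorem xBl_ok : chkL (vec xBl) = true := by decide +kernel
theorem xRl_ok : chkL (vec xRl) = true := by decide +kernel
theorem xCl_ok : chkL (vec xCl) = true := by decide +kernel
theorem xBl_val : ∀ i, vec xBl i = if i ∈ S O1m then 2 else 0 := by decide +kernel
theorem xRl_val : ∀ i, vec xRl i = if i = pt 1 then -3 else 1 := by decide +kernel
theorem xCl_val : ∀ i, vec xCl i = if i = none then 3 else if i ∈ S O3m then -1 else 1 := by decide +kernel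
theorem fHB_ok : chkF uSl ySl xBl fHB 40 32 32 = true := by decide +kernel
theorem fHR_ok : chkF uSl ySl xRl fHR 40 32 32 = true := by decide +kernel
theorem fMB_ok : chkF uSl vSl xBl fMB 40 32 32 = true := by decide +kernel
theorem fMC_ok : chkF uSl vSl xCl fMC 40 32 32 = true := by decide +kernel

theorem red24 {s : leechLattice} {δ : ℤ} (hs : Sh s (pt 0) δ) {sl : List ℤ} (hsl : (s : GolayPt → ℤ) = vec sl) {x : leechLattice}
    {σ : Equiv.Perm GolayPt} (hσ : σ ∈ M24) (h0 : σ none = none) (h1 : σ (pt 0) = pt 0) {xl fl : List ℤ} (hxl : chkL (vec xl) = true)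
    (hfl : chkF uSl sl xl fl 40 32 32 = true) (hv : ∀ i, vec xl (σ i) = (x : GolayPt → ℤ) i) : E3 uS s x 40 32 32 := by
  apply E3.of_smul (mono σ hσ ∅ cd_empty)
  rw [perm_uS hσ h0, perm_sh hσ h0 h1 hs, eq_of_perm hσ (y := ⟨vec xl, mem_of_chk hxl⟩) hv]
  exact E3_of_chk hfl rfl hsl rfl

theorem e8_E3 {s x : leechLattice} (h1 : (s : GolayPt → ℤ) none = 4) (h2 : (x : GolayPt → ℤ) none = 4) : E3 uS s x 40 32 32 := by
  refine ⟨e8 none, e8_norm none, ?_, ?_, ?_⟩
  · rw [dot_e8, uS_val, if_pos rfl]; norm_num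
  · rw [dot_e8, h1]; norm_num
  · rw [dot_e8, h2]; norm_num

theorem existsH {x : leechLattice} (hx : X24 x) (he : (x : GolayPt → ℤ) none = (x : GolayPt → ℤ) (pt 0)) : E3 uS yS x 40 32 32 := by
  rcases types24 hx.1 hx.2 with ⟨b, hb, hs⟩ | ⟨O, hO, h0, hv⟩ | ⟨r, hr, hv⟩ | ⟨O, hO, h0, hv⟩
  · exact e8_E3 (by rw [yS_sh none, if_pos rfl]) (by rw [hs none, if_pos rfl])
  · have h1 : pt 0 ∈ O := by
      by_contra hh
      rw [hv, hv, if_pos h0, if_neg hh] at he; norm_num at he
    obtain ⟨σ, hσ, e1, e2, e3⟩ := oct2 hO O1m_mem h0 h1 O1m_in.1 O1m_in.2.1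
    refine red24 yS_sh rfl hσ e2 e3 xBl_ok fHB_ok fun i => ?_
    rw [xBl_val, hv, ← e1]
    have m1 := mem_smul_iff' (rfl : σ • O = σ • O) i
    simp only [m1]
  · have h1 : r ≠ pt 0 := by
      rintro rfl
      rw [hv, hv, if_neg hr.symm, if_pos rfl] at he; norm_num at he
    have h01 : (pt 0 : GolayPt) ≠ pt 1 := by decide +kernel
    have h11 : (pt 1 : GolayPt) ≠ none := by decide +kernel
    obtain ⟨σ, hσ, hσi⟩ := m24_transOn [none, pt 0, r] [none, pt 0, pt 1] (by simp [pt0_ne.symm, hr.symm, h1.symm]) (by simp [pt0_ne.symm, h01, h11.symm]) rfl (by simp)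
      (fun _ _ => Finset.mem_univ _) (fun _ _ => Finset.mem_univ _)
    simp only [List.map_cons, List.map_nil, List.cons.injEq, and_true] at hσi
    obtain ⟨e2, e3, e4⟩ := hσi
    refine red24 yS_sh rfl hσ e2 e3 xRl_ok fHR_ok fun i => ?_
    rw [xRl_val, hv, ← e4]
    simp only [σ.injective.eq_iff]
  · exfalso
    have h2 := hv (pt 0)
    rw [if_neg pt0_ne] at h2
    have h3 := hv none
    rw [if_pos rfl] at h3
    split_ifs at h2 <;> omega

theorem existsM {x : leechLattice} (hx : X24 x) (he : (x : GolayPt → ℤ) none + (x : GolayPt → ℤ) (pt 0) = 4) : E3 uS vS x 40 32 32 := by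
  rcases types24 hx.1 hx.2 with ⟨b, hb, hs⟩ | ⟨O, hO, h0, hv⟩ | ⟨r, hr, hv⟩ | ⟨O, hO, h0, hv⟩
  · exact e8_E3 (by rw [vS_sh none, if_pos rfl]) (by rw [hs none, if_pos rfl])
  · have h1 : pt 0 ∈ O := by
      by_contra hh
      rw [hv, hv, if_pos h0, if_neg hh] at he; norm_num at he
    obtain ⟨σ, hσ, e1, e2, e3⟩ := oct2 hO O1m_mem h0 h1 O1m_in.1 O1m_in.2.1
    refine red24 vS_sh rfl hσ e2 e3 xBl_ok fMB_ok fun i => ?_
    rw [xBl_val, hv, ← e1]
    have m1 := mem_smul_iff' (rfl : σ • O = σ • O) i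
    simp only [m1]
  · exfalso
    have h2 := hv (pt 0)
    have h3 := hv none
    rw [if_neg hr.symm] at h3
    split_ifs at h2 <;> omega
  · have h1 : pt 0 ∉ O := by
      intro hh
      rw [hv, hv, if_pos rfl, if_neg pt0_ne, if_pos hh] at he; norm_num at he
    obtain ⟨σ, hσ, e1, e2, e3⟩ := octq hO O3m_mem h0 h1 O3m_in.1 O3m_in.2
    refine red24 vS_sh rfl hσ e2 e3 xCl_ok fMC_ok fun i => ?_
    rw [xCl_val, hv, ← e1]
    have m1 := mem_smul_iff' (rfl : σ • O = σ • O) i
    have m2 : σ i = none ↔ i = none := ⟨fun h => σ.injective (h.trans e2.symm), fun h => by rw [h, e2]⟩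
    simp only [m1, m2]

end Cfsg.Agent.H9.Leech
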