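import Cfsg.Agent.H9.Leech.Stab
set_option autoImplicit false

/-! Irreducibility, the invariant quadratic form, non-splitness. -/

namespace Cfsg.Agent.H9.Leech
open Cfsg Cfsg.Agent.H9
open scoped Pointwise

theorem sq_vec (l : List ℤ) (n : ℤ) (h : decide (sqNorm (vec l) = n) = true) : sqNorm (vec l) = n := by simpa using h

/-- elements acting trivially modulo 2 -/
theorem trivial_mod2 {g : Co0} (h : ∀ v : leechLattice, ∃ w : leechLattice, ((g • v : leechLattice) : GolayPt → ℤ) - (v : GolayPt → ℤ) = 2 • (w : GolayPt → ℤ)) :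
    g = 1 ∨ g = neg1 := by
  have hpm : ∀ v : leechLattice, sqNorm (v : GolayPt → ℤ) = 32 → g • v = v ∨ g • v = -v := by
    intro v hv
    obtain ⟨w, hw⟩ := h v
    rcases cong_short v.2 (by rw [sqNorm_smul, hv]; norm_num) (by rw [hv]; norm_num) ⟨w, w.2, hw⟩ with h1 | h1 | ⟨_, h1, _⟩
    · exact Or.inl (Subtype.ext h1)
    · exact Or.inr (Subtype.ext h1)
    · omega
  have hp : ∀ i j : GolayPt, (∑ k, ((Pi.single i 1 : GolayPt → ℤ) k + (Pi.single j 1 : GolayPt → ℤ) k)) % 2 = 0 := by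
    intro i j; rw [Finset.sum_add_distrib, sum_single', sum_single']; norm_num
  have hm : ∀ i j : GolayPt, (∑ k, ((Pi.single i 1 : GolayPt → ℤ) k - (Pi.single j 1 : GolayPt → ℤ) k)) % 2 = 0 := by
    intro i j; rw [Finset.sum_sub_distrib, sum_single', sum_single']; norm_num
  let P : GolayPt → GolayPt → leechLattice := fun i j => ⟨_, four_mem (hp i j)⟩
  let D : GolayPt → GolayPt → leechLattice := fun i j => ⟨_, four_mem (hm i j)⟩
  have hPv : ∀ i j k, (P i j : GolayPt → ℤ) k = 4 * ((if k = i then 1 else 0) + (if k = j then 1 else 0)) := by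
    intro i j k
    change 4 * ((Pi.single i 1 : GolayPt → ℤ) k + (Pi.single j 1 : GolayPt → ℤ) k) = _
    rw [single_apply', single_apply']
  have hDv : ∀ i j k, (D i j : GolayPt → ℤ) k = 4 * ((if k = i then 1 else 0) - (if k = j then 1 else 0)) := by
    intro i j k
    change 4 * ((Pi.single i 1 : GolayPt → ℤ) k - (Pi.single j 1 : GolayPt → ℤ) k) = _
    rw [single_apply', single_apply']
  have hPe : ∀ i j, (P i j : GolayPt → ℤ) = Pi.single i 4 + Pi.single j 4 := by
    intro i j; funext k; rw [hPv, Pi.add_apply, single_apply', single_apply']; split_ifs <;> norm_num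
  have hDe : ∀ i j, (D i j : GolayPt → ℤ) = Pi.single i 4 - Pi.single j 4 := by
    intro i j; funext k; rw [hDv, Pi.sub_apply, single_apply', single_apply']; split_ifs <;> norm_num
  have nP : ∀ i j, i ≠ j → sqNorm (P i j : GolayPt → ℤ) = 32 := by
    intro i j hij
    rw [hPe, sqNorm_add, sqNorm_single, sqNorm_single, dot_single, single_apply', if_neg (Ne.symm hij)]; norm_num
  have nD : ∀ i j, i ≠ j → sqNorm (D i j : GolayPt → ℤ) = 32 := by
    intro i j hij
    rw [hDe, sqNorm_sub, sqNorm_single, sqNorm_single, dot_single, single_apply', if_neg (Ne.symm hij)]; norm_num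
  have hsum : ∀ i j, e8 i = P i j + D i j := by
    intro i j; apply Subtype.ext; funext k
    change (Pi.single i 8 : GolayPt → ℤ) k = (P i j : GolayPt → ℤ) k + (D i j : GolayPt → ℤ) k
    rw [hPv, hDv, single_apply']; split_ifs <;> norm_num
  -- g e8 i vanishes away from i and any j
  have h2 : ∀ i j k, i ≠ j → k ≠ i → k ≠ j → ((g • e8 i : leechLattice) : GolayPt → ℤ) k = 0 := by
    intro i j k hij hki hkj
    rw [hsum i j, smul_add']
    change ((g • P i j : leechLattice) : GolayPt → ℤ) k + ((g • D i j : leechLattice) : GolayPt → ℤ) k = 0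
    have e1 : (P i j : GolayPt → ℤ) k = 0 := by rw [hPv, if_neg hki, if_neg hkj]; norm_num
    have e2 : (D i j : GolayPt → ℤ) k = 0 := by rw [hDv, if_neg hki, if_neg hkj]; norm_num
    have f1 : ((g • P i j : leechLattice) : GolayPt → ℤ) k = 0 := by
      rcases hpm _ (nP i j hij) with h | h
      · rw [h]; exact e1
      · rw [h]; change -((P i j : GolayPt → ℤ) k) = 0; rw [e1]; norm_num
    have f2 : ((g • D i j : leechLattice) : GolayPt → ℤ) k = 0 := by
      rcases hpm _ (nD i j hij) with h | h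
      · rw [h]; exact e2
      · rw [h]; change -((D i j : GolayPt → ℤ) k) = 0; rw [e2]; norm_num
    rw [f1, f2]; norm_num
  have hthird : ∀ i k : GolayPt, k ≠ i → ∃ j, i ≠ j ∧ k ≠ j := by
    intro i k hk
    obtain ⟨j, hj⟩ := Finset.exists_mem_notMem_of_card_lt_card (s := ({i, k} : Finset GolayPt)) (t := Finset.univ) (by
      rw [Finset.card_univ, card_pt]; exact lt_of_le_of_lt Finset.card_le_two (by norm_num))
    exact ⟨j, fun h => hj.2 (by simp [h]), fun h => hj.2 (by simp [h])⟩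
  have h3 : ∀ i, ((g • e8 i : leechLattice) : GolayPt → ℤ) = Pi.single i (((g • e8 i : leechLattice) : GolayPt → ℤ) i) := by
    intro i; funext k
    rw [single_apply']
    split_ifs with hk
    · rw [hk]
    · obtain ⟨j, hij, hkj⟩ := hthird i k hk
      exact h2 i j k hij hk hkj
  have h4 : ∀ i, ∃ s : ℤ, (s = 1 ∨ s = -1) ∧ ((g • e8 i : leechLattice) : GolayPt → ℤ) = Pi.single i (8 * s) := by
    intro i
    have h5 := sqNorm_smul g (e8 i)
    rw [e8_norm, h3, sqNorm_single] at h5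
    have h6 := h3 i
    obtain ⟨a, ha⟩ : ∃ a, a = ((g • e8 i : leechLattice) : GolayPt → ℤ) i := ⟨_, rfl⟩
    rw [← ha] at h5 h6
    have h7 : (a - 8) * (a + 8) = 0 := by linarith [h5, (by ring : (a - 8) * (a + 8) = a ^ 2 - 64)]
    rcases mul_eq_zero.1 h7 with h8 | h8
    · exact ⟨1, Or.inl rfl, by rw [h6]; congr 1; linarith⟩
    · exact ⟨-1, Or.inr rfl, by rw [h6]; congr 1; linarith⟩
  obtain ⟨s, hs, h5⟩ := h4 none
  apply pm_of hs
  intro i
  by_cases hi : i = none
  · rw [hi]; exact h5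
  · obtain ⟨t, ht, h6⟩ := h4 i
    have h7 : s = t := by
      have e1 := h4 none
      -- compare through P none i : 8 (g P) = g e8 none + g e8 i halves
      have e2 : P none i + P none i = e8 none + e8 i := by
        apply Subtype.ext; funext k
        change (P none i : GolayPt → ℤ) k + (P none i : GolayPt → ℤ) k = (Pi.single none 8 : GolayPt → ℤ) k + (Pi.single i 8 : GolayPt → ℤ) k
        rw [hPv, single_apply', single_apply']; split_ifs <;> norm_num
      have e3 := congrArg (fun v : leechLattice => ((g • v : leechLattice) : GolayPt → ℤ)) e2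
      simp only [smul_add'] at e3
      have e4 : ∀ k, ((g • P none i : leechLattice) : GolayPt → ℤ) k + ((g • P none i : leechLattice) : GolayPt → ℤ) k =
          (Pi.single none (8 * s) : GolayPt → ℤ) k + (Pi.single i (8 * t) : GolayPt → ℤ) k := by
        intro k
        rw [← h5, ← h6]; exact congrFun e3 k
      have a1 := e4 none
      have a2 := e4 i
      rw [single_apply', single_apply', if_pos rfl, if_neg (Ne.symm hi)] at a1
      rw [single_apply', single_apply', if_pos rfl, if_neg hi] at a2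
      have b1 : (P none i : GolayPt → ℤ) none = 4 := by rw [hPv, if_pos rfl, if_neg (Ne.symm hi)]; norm_num
      have b2 : (P none i : GolayPt → ℤ) i = 4 := by rw [hPv, if_pos rfl, if_neg hi]; norm_num
      rcases hpm _ (nP none i (Ne.symm hi)) with h | h
      · rw [h] at a1 a2
        rw [b1] at a1; rw [b2] at a2; omega
      · rw [h] at a1 a2
        change -(P none i : GolayPt → ℤ) none + -(P none i : GolayPt → ℤ) none = _ at a1
        change -(P none i : GolayPt → ℤ) i + -(P none i : GolayPt → ℤ) i = _ at a2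
        rw [b1] at a1; rw [b2] at a2; omega
    rw [h7]; exact h6

def u48 : List ℤ := [5,1,1,1,1,1,1,1,1,1,1,1,1,1,1,1,1,1,1,1,1,1,1,1]
def u48' : List ℤ := [1,5,1,1,1,1,1,1,1,1,1,1,1,1,1,1,1,1,1,1,1,1,1,1]
def u32 : List ℤ := [4,-4,0,0,0,0,0,0,0,0,0,0,0,0,0,0,0,0,0,0,0,0,0,0]
def u64 : List ℤ := [4,4,4,4,0,0,0,0,0,0,0,0,0,0,0,0,0,0,0,0,0,0,0,0]
def u64' : List ℤ := [4,4,4,0,4,0,0,0,0,0,0,0,0,0,0,0,0,0,0,0,0,0,0,0]
def u32' : List ℤ := [0,0,0,4,-4,0,0,0,0,0,0,0,0,0,0,0,0,0,0,0,0,0,0,0]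

theorem u48_mem : vec u48 ∈ leechLattice := mem_of_chk (by decide +kernel)
theorem u48_mem' : vec u48' ∈ leechLattice := mem_of_chk (by decide +kernel)
theorem u32_mem : vec u32 ∈ leechLattice := mem_of_chk (by decide +kernel)
theorem u64_mem : vec u64 ∈ leechLattice := mem_of_chk (by decide +kernel)
theorem u64_mem' : vec u64' ∈ leechLattice := mem_of_chk (by decide +kernel)
theorem u32_mem' : vec u32' ∈ leechLattice := mem_of_chk (by decide +kernel)
theorem u48_n : sqNorm (vec u48) = 48 ∧ sqNorm (vec u48') = 48 ∧ sqNorm (vec u32) = 32 ∧ sqNorm (vec u64) = 64 ∧ sqNorm (vec u64') = 64 ∧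
    sqNorm (vec u32') = 32 := by decide +kernel
theorem u_eq : ∀ p, vec u48 p - vec u48' p = vec u32 p ∧ vec u64 p - vec u64' p = vec u32' p := by decide +kernel

theorem irreducible (M : AddSubgroup (GolayPt → ℤ)) (h2 : ∀ v ∈ leechLattice, (2 : ℤ) • v ∈ M) (hle : M ≤ leechLattice)
    (hinv : ∀ g : Co0, ∀ v : leechLattice, (v : GolayPt → ℤ) ∈ M → ((g • v : leechLattice) : GolayPt → ℤ) ∈ M) :
    (∀ x ∈ M, ∃ w ∈ leechLattice, x = (2 : ℤ) • w) ∨ M = leechLattice := by
  by_cases hall : ∀ x ∈ M, ∃ w ∈ leechLattice, x = (2 : ℤ) • w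
  · exact Or.inl hall
  right
  push Not at hall
  obtain ⟨x, hx, hx2⟩ := hall
  obtain ⟨y, hy, hyn, z, hz, hxy⟩ := short_rep x (hle hx)
  have hyM : y ∈ M := by
    have : y = x - (2 : ℤ) • z := by rw [two_smul, ← two_nsmul, ← hxy]; abel
    rw [this]; exact M.sub_mem hx (h2 z hz)
  have hy0 : y ≠ 0 := by
    rintro rfl
    apply hx2 z hz
    rw [two_smul, ← two_nsmul, ← hxy, sub_zero]
  have hge := norm_ge hy hy0
  have hdv := norm_dvd hy
  have himg : ∀ {a b : GolayPt → ℤ}, a ∈ M → Eqv a b → b ∈ M := by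
    rintro a b ha ⟨g, h1, h2⟩
    rw [← h2]; exact hinv g ⟨a, h1⟩ ha
  have hmin : ∀ w, w ∈ M → sqNorm w = 32 → M = leechLattice := by
    intro w hw hwn
    apply le_antisymm hle
    rw [← gen_min, AddSubgroup.closure_le]
    rintro v ⟨hv, hvn⟩
    exact himg hw (trans32 (hle hw) hv hwn hvn)
  have : sqNorm y = 32 ∨ sqNorm y = 48 ∨ sqNorm y = 64 := by omega
  rcases this with h | h | h
  · exact hmin y hyM h
  · have a1 := himg hyM (trans48 hy u48_mem h u48_n.1)
    have a2 := himg hyM (trans48 hy u48_mem' h u48_n.2.1)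
    apply hmin (vec u32) _ u48_n.2.2.1
    have : vec u32 = vec u48 - vec u48' := by funext p; rw [Pi.sub_apply]; exact (u_eq p).1.symm
    rw [this]; exact M.sub_mem a1 a2
  · have hc : ∀ b, b ∈ leechLattice → sqNorm b = 64 → b ∈ M := by
      intro b hb hbn
      obtain ⟨_, g, y', hg, w, hw, e⟩ := trans64' hy h hb hbn
      have h3 : y' ∈ M := himg hyM ⟨g, hg⟩
      have h4 : b = y' - (2 : ℤ) • w := by rw [two_smul, ← e]; abel
      rw [h4]; exact M.sub_mem h3 (h2 w hw)
    apply hmin (vec u32') _ u48_n.2.2.2.2.2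
    have : vec u32' = vec u64 - vec u64' := by funext p; rw [Pi.sub_apply]; exact (u_eq p).2.symm
    rw [this]; exact M.sub_mem (hc _ u64_mem u48_n.2.2.2.1) (hc _ u64_mem' u48_n.2.2.2.2.1)

/-! ### the invariant quadratic form -/

def q1 : List ℤ := [4,4,0,0,0,0,0,0,0,0,0,0,0,0,0,0,0,0,0,0,0,0,0,0]
def q2 : List ℤ := [0,0,4,4,0,0,0,0,0,0,0,0,0,0,0,0,0,0,0,0,0,0,0,0]
def q3 : List ℤ := [0,0,0,-4,4,0,0,0,0,0,0,0,0,0,0,0,0,0,0,0,0,0,0,0]
def q4 : List ℤ := [1,1,1,1,1,1,1,1,1,1,1,1,1,1,1,1,1,1,1,1,1,1,1,-3]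
def q5 : List ℤ := [0,-4,-4,0,0,0,0,0,0,0,0,0,0,0,0,0,0,0,0,0,0,0,0,0]
def q6 : List ℤ := [0,4,0,0,0,0,0,0,0,0,0,0,0,0,0,0,0,0,0,0,0,0,0,4]

def qmem (l : List ℤ) (h : chkL (vec l) = true) : leechLattice := ⟨vec l, mem_of_chk h⟩
theorem q1c : chkL (vec q1) = true := by decide +kernel
theorem q2c : chkL (vec q2) = true := by decide +kernel
theorem q3c : chkL (vec q3) = true := by decide +kernel
theorem q4c : chkL (vec q4) = true := by decide +kernel
theorem q5c : chkL (vec q5) = true := by decide +kernel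
theorem q6c : chkL (vec q6) = true := by decide +kernel

theorem q_norms : sqNorm (vec q1) = 32 ∧ sqNorm (vec q2) = 32 ∧ sqNorm (vec q3) = 32 ∧ sqNorm (vec q4) = 32 ∧ sqNorm (vec q5) = 32 ∧
    sqNorm (vec q6) = 32 ∧ sqNorm (vec q2 + vec q3) = 32 ∧ sqNorm (vec q1 + vec q2) = 64 ∧ sqNorm (vec q1 + vec q3) = 64 ∧
    sqNorm (vec q1 + (vec q2 + vec q3)) = 64 ∧ sqNorm (vec q5 + vec q6) = 32 ∧ sqNorm (vec q4 + vec q5) = 48 ∧ sqNorm (vec q4 + vec q6) = 48 ∧
    sqNorm (vec q4 + (vec q5 + vec q6)) = 32 := by decide +kernel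

theorem z2 : ∀ a : ZMod 2, a + a = 0 ∧ (a = 0 ∨ a = 1) := by decide

theorem form_unique (Q : leechLattice → ZMod 2) (hcoset : ∀ v w : leechLattice, Q (v + (w + w)) = Q v)
    (hquad : ∀ u v w : leechLattice, Q (u + v + w) + Q u + Q v + Q w = Q (u + v) + Q (u + w) + Q (v + w))
    (hinv : ∀ (g : Co0) (v : leechLattice), Q (g • v) = Q v) (hne : ∃ v : leechLattice, Q v ≠ 0) (v : leechLattice) :
    Q v = ((sqNorm (v : GolayPt → ℤ) / 16 : ℤ) : ZMod 2) := by
  have hQ0 : Q 0 = 0 := by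
    have h := hquad 0 0 0
    simp only [add_zero] at h
    have := z2 (Q 0)
    generalize Q 0 = a at *
    revert a; decide
  have t32 : ∀ v w : leechLattice, sqNorm (v : GolayPt → ℤ) = 32 → sqNorm (w : GolayPt → ℤ) = 32 → Q v = Q w := by
    intro v w hv hw
    obtain ⟨g, hg⟩ := trans32 v.2 w.2 hv hw
    rw [← hinv g v, show g • v = w from Subtype.ext hg.eq]
  have t48 : ∀ v w : leechLattice, sqNorm (v : GolayPt → ℤ) = 48 → sqNorm (w : GolayPt → ℤ) = 48 → Q v = Q w := by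
    intro v w hv hw
    obtain ⟨g, hg⟩ := trans48 v.2 w.2 hv hw
    rw [← hinv g v, show g • v = w from Subtype.ext hg.eq]
  have t64 : ∀ v w : leechLattice, sqNorm (v : GolayPt → ℤ) = 64 → sqNorm (w : GolayPt → ℤ) = 64 → Q v = Q w := by
    intro v w hv hw
    obtain ⟨_, g, y', hg, z, hz, e⟩ := trans64' v.2 hv w.2 hw
    have h1 : g • v = w + (⟨z, hz⟩ + ⟨z, hz⟩) := by
      apply Subtype.ext
      rw [hg.eq]
      change y' = (w : GolayPt → ℤ) + (z + z)
      rw [← e]; abel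
    rw [← hinv g v, h1, hcoset]
  obtain ⟨n1, n2, n3, n4, n5, n6, n7, n8, n9, n10, n11, n12, n13, n14⟩ := q_norms
  let Q1 := qmem q1 q1c
  let Q2 := qmem q2 q2c
  let Q3 := qmem q3 q3c
  let Q4 := qmem q4 q4c
  let Q5 := qmem q5 q5c
  let Q6 := qmem q6 q6c
  -- type 4 value
  have a4 : Q (Q1 + Q2) = 0 := by
    have h := hquad Q1 Q2 Q3
    have e1 : Q (Q1 + Q2 + Q3) = Q (Q1 + Q2) := t64 _ _ (by
      have : ((Q1 + Q2 + Q3 : leechLattice) : GolayPt → ℤ) = vec q1 + (vec q2 + vec q3) := add_assoc _ _ _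
      rw [this]; exact n10) n8
    have e2 : Q (Q1 + Q3) = Q (Q1 + Q2) := t64 _ _ n9 n8
    have e3 : Q (Q2 + Q3) = Q Q1 := t32 _ _ n7 n1
    have e4 : Q Q2 = Q Q1 := t32 _ _ n2 n1
    have e5 : Q Q3 = Q Q1 := t32 _ _ n3 n1
    rw [e1, e2, e3, e4, e5] at h
    clear e1 e2 e3 e4 e5
    generalize Q (Q1 + Q2) = a at h ⊢
    generalize Q Q1 = b at h
    revert a b; decide
  have a2 : Q Q1 = 0 := by
    have h := hquad Q4 Q5 Q6
    have e1 : Q (Q4 + Q5 + Q6) = Q Q1 := t32 _ _ (by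
      have : ((Q4 + Q5 + Q6 : leechLattice) : GolayPt → ℤ) = vec q4 + (vec q5 + vec q6) := add_assoc _ _ _
      rw [this]; exact n14) n1
    have e2 : Q (Q4 + Q6) = Q (Q4 + Q5) := t48 _ _ n13 n12
    have e3 : Q (Q5 + Q6) = Q Q1 := t32 _ _ n11 n1
    have e4 : Q Q4 = Q Q1 := t32 _ _ n4 n1
    have e5 : Q Q5 = Q Q1 := t32 _ _ n5 n1
    have e6 : Q Q6 = Q Q1 := t32 _ _ n6 n1
    rw [e1, e2, e3, e4, e5, e6] at h
    clear e1 e2 e3 e4 e5 e6
    generalize Q (Q4 + Q5) = a at h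
    generalize Q Q1 = b at h ⊢
    revert a b; decide
  -- general value through a short representative
  have key : ∀ v : leechLattice, ∃ y : leechLattice, Q v = Q y ∧ (sqNorm (y : GolayPt → ℤ) = 0 ∨ sqNorm (y : GolayPt → ℤ) = 32 ∨
      sqNorm (y : GolayPt → ℤ) = 48 ∨ sqNorm (y : GolayPt → ℤ) = 64) ∧
      (sqNorm (v : GolayPt → ℤ) - sqNorm (y : GolayPt → ℤ)) % 32 = 0 := by
    intro v
    obtain ⟨y, hy, hyn, z, hz, hxy⟩ := short_rep v v.2
    refine ⟨⟨y, hy⟩, ?_, ?_, ?_⟩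
    · have : v = ⟨y, hy⟩ + (⟨z, hz⟩ + ⟨z, hz⟩) := by
        apply Subtype.ext
        change (v : GolayPt → ℤ) = y + (z + z)
        rw [two_nsmul] at hxy; rw [← hxy]; abel
      rw [this, hcoset]
    · have hdv := norm_dvd hy
      change sqNorm y = 0 ∨ sqNorm y = 32 ∨ sqNorm y = 48 ∨ sqNorm y = 64
      by_cases h0 : y = 0
      · left; rw [h0]; simp [sqNorm]
      · have := norm_ge hy h0; omega
    · change (sqNorm (v : GolayPt → ℤ) - sqNorm y) % 32 = 0
      have : (v : GolayPt → ℤ) = y + 2 • z := by rw [← hxy]; abel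
      rw [this, sqNorm_add, two_nsmul_norm, two_nsmul, dotInt_add_right]
      have h1 := dot_dvd hy hz
      have h2 := norm_dvd hz
      omega
  have a3 : Q (Q4 + Q5) = 1 := by
    rcases (z2 (Q (Q4 + Q5))).2 with h | h
    · exfalso
      obtain ⟨v, hv⟩ := hne
      apply hv
      obtain ⟨y, h1, h2, _⟩ := key v
      rw [h1]
      rcases h2 with h2 | h2 | h2 | h2
      · have : y = 0 := Subtype.ext (sqNorm_eq_zero.1 h2)
        rw [this, hQ0]
      · rw [t32 y Q1 h2 n1, a2]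
      · rw [t48 y (Q4 + Q5) h2 n12, h]
      · rw [t64 y (Q1 + Q2) h2 n8, a4]
    · exact h
  obtain ⟨y, h1, h2, h3⟩ := key v
  have hev := norm_dvd v.2
  have hcast : ((sqNorm (v : GolayPt → ℤ) / 16 : ℤ) : ZMod 2) = ((sqNorm (y : GolayPt → ℤ) / 16 : ℤ) : ZMod 2) := by
    apply (ZMod.intCast_eq_intCast_iff' _ _ _).2
    have := norm_dvd y.2
    push_cast
    omega
  rw [h1, hcast]
  rcases h2 with h2 | h2 | h2 | h2
  · have : y = 0 := Subtype.ext (sqNorm_eq_zero.1 h2)
    rw [h2, this, hQ0]; rfl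
  · rw [t32 y Q1 h2 n1, a2, h2]; rfl
  · rw [t48 y (Q4 + Q5) h2 n12, a3, h2]; rfl
  · rw [t64 y (Q1 + Q2) h2 n8, a4, h2]; rfl

/-! ### no complement to the centre -/

def sgP : ℕ := 48777042636194373854900081675800295
def sgD : ℕ := 8101915

theorem sg_ok : checkM24 sgP = true := by decide +kernel
theorem sgD_ok : isCW sgD = true := by decide +kernel
theorem sg_img : imgM sgP sgD = Nat.xor sgD 16777215 := by decide +kernel
theorem sg_inv : allN (fun i => Nat.beq (im sgP (im sgP i)) i) 24 = true := by decide +kernel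

theorem exists_sq_neg1 : ∃ g : Co0, g * g = neg1 := by
  have hP := checkM24_perm sg_ok
  have hσ := checkM24_mem sg_ok
  have hc : S sgD ∈ Cd := cd_iff.2 ⟨_, sgD_ok, rfl⟩
  refine ⟨mono (toPerm sgP) hσ (S sgD) hc, ?_⟩
  apply co0_ext
  intro v
  rw [mul_smul, mono_smul, mono_smul, neg1_smul]
  have hinv : ∀ i, toPerm sgP (toPerm sgP i) = i := by
    intro i
    rw [toPerm_apply hP, toPerm_apply hP, idx_pt (im_lt hP (idx_lt i))]
    rw [Nat.eq_of_beq_eq_true ((allN_iff _ _).1 sg_inv (idx i) (idx_lt i)), pt_idx]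
  have hcmp : ∀ i, toPerm sgP i ∈ S sgD ↔ i ∉ S sgD := by
    intro i
    have h1 : toPerm sgP • S sgD = (S sgD)ᶜ := by
      rw [smul_S hP, sg_img, ← S_compl]; rfl
    have h2 := mem_smul_iff' h1 i
    rw [Finset.mem_compl] at h2
    tauto
  have hsymm : ∀ i, (toPerm sgP).symm i = toPerm sgP i := by
    intro i; rw [Equiv.symm_apply_eq, hinv]
  funext i
  unfold signedPerm
  simp only [hsymm, hinv, hcmp]
  by_cases h : i ∈ S sgD
  · simp [h]
  · simp [h]

theorem no_complement (K : Subgroup Co0) : ¬ (Subgroup.zpowers neg1).IsComplement' K := by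
  intro hK
  obtain ⟨g, hg⟩ := exists_sq_neg1
  have hcard : Nat.card (Subgroup.zpowers neg1) = 2 := by
    rw [Nat.card_zpowers]
    apply orderOf_eq_prime
    · apply co0_ext; intro v
      rw [pow_two, mul_smul, one_smul, neg1_smul, neg1_smul, neg_neg]
    · exact neg1_ne
  have hidx : K.index = 2 := by
    rw [← hcard]
    exact hK.index_eq_card
  have h1 : g * g ∈ K := by
    have := Subgroup.mul_self_mem_of_index_two hidx g
    exact this
  rw [hg] at h1
  have h2 := hK.disjoint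
  have h3 : neg1 ∈ Subgroup.zpowers neg1 ⊓ K := ⟨Subgroup.mem_zpowers _, h1⟩
  rw [h2.eq_bot] at h3
  exact neg1_ne (Subgroup.mem_bot.1 h3)

end Cfsg.Agent.H9.Leech
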