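import Cfsg.Agent.H9.Leech.Hs4
set_option autoImplicit false

/-! Rank three on 275 points. -/

namespace Cfsg.Agent.H9.Leech
open Cfsg Cfsg.Agent.H9
open scoped Pointwise

def xv (b : GolayPt) : leechLattice := pmv (b, true)
theorem xv_sh {b : GolayPt} (hb : b ≠ none) : Sh (xv b) b 1 := by
  have := pmv_val (b, true) hb
  unfold xv
  simpa using this
theorem pt1_ne : (pt 1 : GolayPt) ≠ none := by decide +kernel
theorem pt01 : (pt 0 : GolayPt) ≠ pt 1 := by decide +kernel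

def E4 (u s x y : leechLattice) (l : ℤ) : Prop := ∃ f : leechLattice, sqNorm (f : GolayPt → ℤ) = 64 ∧
  dotInt (u : GolayPt → ℤ) (f : GolayPt → ℤ) = 40 ∧ dotInt (s : GolayPt → ℤ) (f : GolayPt → ℤ) = 32 ∧
  dotInt (x : GolayPt → ℤ) (f : GolayPt → ℤ) = 32 ∧ dotInt (y : GolayPt → ℤ) (f : GolayPt → ℤ) = l

theorem E4.of_smul (g : Co0) {u s x y : leechLattice} {l : ℤ} (h : E4 (g • u) (g • s) (g • x) (g • y) l) : E4 u s x y l := by
  obtain ⟨f, h1, h2, h3, h4, h5⟩ := h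
  refine ⟨g⁻¹ • f, by rw [sqNorm_smul, h1], ?_, ?_, ?_, ?_⟩
  · rw [← dot_smul g, smul_inv_smul, h2]
  · rw [← dot_smul g, smul_inv_smul, h3]
  · rw [← dot_smul g, smul_inv_smul, h4]
  · rw [← dot_smul g, smul_inv_smul, h5]

noncomputable def chk4 (b : GolayPt) (yl fl : List ℤ) (l : ℤ) : Bool := chkL (vec fl) && decide (sqNorm (vec fl) = 64) && decide (dotInt (vec uSl) (vec fl) = 40) &&
  decide (dotInt (vec vSl) (vec fl) = 32) && decide (dotInt (fun i : GolayPt => if i = none then 4 else if i = b then 4 * 1 else 0) (vec fl) = 32) && decide (dotInt (vec yl) (vec fl) = l)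

theorem E4_of_chk {b : GolayPt} (hb : b ≠ none) {yl fl : List ℤ} {l : ℤ} (h : chk4 b yl fl l = true) {y : leechLattice} (hy : (y : GolayPt → ℤ) = vec yl) :
    E4 uS vS (xv b) y l := by
  unfold chk4 at h
  simp only [Bool.and_eq_true, decide_eq_true_eq] at h
  obtain ⟨⟨⟨⟨⟨h1, h2⟩, h3⟩, h4⟩, h5⟩, h6⟩ := h
  refine ⟨⟨vec fl, mem_of_chk h1⟩, h2, h3, h4, ?_, by rw [hy]; exact h6⟩
  have : (xv b : GolayPt → ℤ) = fun i : GolayPt => if i = none then 4 else if i = b then 4 * 1 else 0 := funext (xv_sh hb)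
  rw [this]; exact h5

theorem e8_E4 {x y : leechLattice} (h1 : (x : GolayPt → ℤ) none = 4) : E4 uS vS x y (8 * (y : GolayPt → ℤ) none) := by
  refine ⟨e8 none, e8_norm none, ?_, ?_, ?_, ?_⟩
  · rw [dot_e8, uS_val, if_pos rfl]; norm_num
  · rw [dot_e8, vS_val.1]; norm_num
  · rw [dot_e8, h1]; norm_num
  · rw [dot_e8]

theorem fix4 {y : leechLattice} {l : ℤ} (h : E4 uS vS (xv (pt 1)) y l) :
    ∃ g : Co0, g • uS = uS ∧ g • vS = vS ∧ g • xv (pt 1) = xv (pt 1) ∧ 8 * ((g • y : leechLattice) : GolayPt → ℤ) none = l := by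
  have hx1 := xv_sh pt1_ne
  have hxn : sqNorm (xv (pt 1) : GolayPt → ℤ) = 32 := vA_norm hx1 (Or.inl rfl) pt1_ne
  obtain ⟨f, hf, h1, h2, h3, h4⟩ := h
  obtain ⟨g, hg⟩ := T64 f hf
  have e1 := dot_smul g uS f
  have e2 := dot_smul g vS f
  have e3 := dot_smul g (xv (pt 1)) f
  have e4 := dot_smul g y f
  rw [hg, dot_e8] at e1 e2 e3 e4
  obtain ⟨j, hj, δ, hδ, hsj⟩ := sh_of (v := g • vS) (by rw [sqNorm_smul, vS_norm]) (by omega)
  obtain ⟨k, hk, ε, hε, hsk⟩ := sh_of (v := g • xv (pt 1)) (by rw [sqNorm_smul, hxn]) (by omega)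
  have g5 : ((g • uS : leechLattice) : GolayPt → ℤ) none = 5 := by omega
  have g1 := five_shape (u := g • uS) (by rw [sqNorm_smul, uS_norm]) g5
  have g5' : (uS : GolayPt → ℤ) none = 5 := by rw [uS_val, if_pos rfl]
  have g1' := five_shape uS_norm g5'
  have hjk : k ≠ j := by
    intro hh
    have q1 := sh_sh hj hk hsj hsk
    have q2 := sh_sh pt0_ne pt1_ne vS_sh hx1
    rw [dot_smul, q2, if_neg pt01.symm, if_pos hh] at q1
    rcases hδ with rfl | rfl <;> rcases hε with rfl | rfl <;> norm_num at q1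
  obtain ⟨σ, hσ, hσi⟩ := m24_transOn [none, j, k] [none, pt 0, pt 1] (by simp [hj.symm, hk.symm, hjk.symm]) (by simp [pt0_ne.symm, pt1_ne.symm, pt01]) rfl (by simp)
    (fun _ _ => Finset.mem_univ _) (fun _ _ => Finset.mem_univ _)
  simp only [List.map_cons, List.map_nil, List.cons.injEq, and_true] at hσi
  obtain ⟨h0, hσj, hσk⟩ := hσi
  obtain ⟨c, hc, hm⟩ := match48 g5 g1 g5' g1' hσ h0
  have m1 := finish g5 g1 g5' g1' hsj vS_sh hj pt0_ne hδ (Or.inl rfl) (by rw [dot_smul]) hσ h0 hσj hc hm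
  have m2 := finish g5 g1 g5' g1' hsk hx1 hk pt1_ne hε (Or.inl rfl) (by rw [dot_smul]) hσ h0 hσk hc hm
  have hnc : none ∉ c := by
    intro hh
    have q := eps_smul hc (mono σ hσ ∅ cd_empty • g • uS) none
    rw [if_pos hh] at q
    change ((mono 1 M24.one_mem c hc • mono σ hσ ∅ cd_empty • g • uS : leechLattice) : GolayPt → ℤ) none = _ at q
    rw [hm, g5'] at q
    have q2 := perm_val hσ (g • uS) none
    rw [h0] at q2
    rw [q2, g5] at q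
    norm_num at q
  refine ⟨mono 1 M24.one_mem c hc * (mono σ hσ ∅ cd_empty * g), ?_, ?_, ?_, ?_⟩
  · rw [mul_smul, mul_smul, hm]
  · rw [mul_smul, mul_smul, m1]
  · rw [mul_smul, mul_smul, m2]
  · rw [mul_smul, mul_smul]
    have q := eps_smul hc (mono σ hσ ∅ cd_empty • g • y) none
    rw [if_neg hnc] at q
    change ((mono 1 M24.one_mem c hc • mono σ hσ ∅ cd_empty • g • y : leechLattice) : GolayPt → ℤ) none = _ at q
    have q2 := perm_val hσ (g • y) none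
    rw [h0] at q2
    rw [q, q2]
    omega

theorem perm_xv {σ : Equiv.Perm GolayPt} (hσ : σ ∈ M24) (h0 : σ none = none) {b b' : GolayPt} (hb : b ≠ none) (hb' : b' ≠ none) (h : σ b = b') :
    mono σ hσ ∅ cd_empty • xv b = xv b' :=
  (mono_sh hσ cd_empty h0 h hb' (Finset.notMem_empty _) (by rw [if_neg (Finset.notMem_empty _)]) (xv_sh hb)).unique (xv_sh hb')

theorem red4 {y : leechLattice} {b : GolayPt} (hb : b ≠ none) {σ : Equiv.Perm GolayPt} (hσ : σ ∈ M24) (h0 : σ none = none) (h1 : σ (pt 0) = pt 0) (h2 : σ (pt 1) = b)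
    {yl fl : List ℤ} {l : ℤ} (hyl : chkL (vec yl) = true) (hfl : chk4 b yl fl l = true) (hv : ∀ i, vec yl (σ i) = (y : GolayPt → ℤ) i) :
    E4 uS vS (xv (pt 1)) y l := by
  apply E4.of_smul (mono σ hσ ∅ cd_empty)
  rw [perm_uS hσ h0, perm_sh hσ h0 h1 vS_sh, perm_xv hσ h0 pt1_ne hb h2, eq_of_perm hσ (y := ⟨vec yl, mem_of_chk hyl⟩) hv]
  exact E4_of_chk hb hfl rfl

theorem octr {O O' : Finset GolayPt} (hO : O ∈ octads) (hO' : O' ∈ octads) {a a' q q' : GolayPt} (h0 : none ∈ O) (ha : a ∈ O) (hq : q ∉ O) (ha0 : a ≠ none)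
    (h0' : none ∈ O') (ha' : a' ∈ O') (hq' : q' ∉ O') (ha0' : a' ≠ none) : ∃ σ ∈ M24, σ • O = O' ∧ σ none = none ∧ σ a = a' ∧ σ q = q' := by
  obtain ⟨g, hg, h2, h3, h4⟩ := oct_frame' 2 (by norm_num) hO (fun n => if n = 0 then none else a)
    (fun i hi => by interval_cases i <;> simp [h0, ha]) (fun i hi j hj => by
      interval_cases i
      · omega
      · interval_cases j; simpa using ha0) hq
  obtain ⟨k, hk, h5, h6, h7⟩ := oct_frame' 2 (by norm_num) hO' (fun n => if n = 0 then none else a')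
    (fun i hi => by interval_cases i <;> simp [h0', ha']) (fun i hi j hj => by
      interval_cases i
      · omega
      · interval_cases j; simpa using ha0') hq'
  refine ⟨k⁻¹ * g, join hg hk, by rw [mul_smul, h2, ← h5, inv_smul_smul], ?_, ?_, ?_⟩
  · have e1 := h3 0 (by norm_num)
    have e2 := h6 0 (by norm_num)
    simp only [if_true] at e1 e2
    rw [Equiv.Perm.mul_apply, e1, ← e2]; simp
  · have e1 := h3 1 (by norm_num)
    have e2 := h6 1 (by norm_num)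
    simp only [one_ne_zero, if_false] at e1 e2
    rw [Equiv.Perm.mul_apply, e1, ← e2]; simp
  · rw [Equiv.Perm.mul_apply, h4, ← h7]; simp

def O5m : ℕ := 9347075
def O6m : ℕ := 10305542
theorem O5m_mem : S O5m ∈ octads := S_mem_octads (by decide +kernel) (by decide +kernel)
theorem O6m_mem : S O6m ∈ octads := S_mem_octads (by decide +kernel) (by decide +kernel)
theorem O5m_in : none ∈ S O5m ∧ pt 0 ∈ S O5m ∧ pt 1 ∈ S O5m := by decide +kernel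
theorem O6m_in : none ∈ S O6m ∧ pt 0 ∉ S O6m ∧ pt 1 ∈ S O6m := by decide +kernel
def yM5 : List ℤ := [2, 2, 0, 0, 0, 0, 0, 0, 0, 0, 0, 0, 0, 2, 0, 2, 0, 2, 2, 2, 0, 0, 0, 2]
def fM5 : List ℤ := [3, 3, 1, -1, -1, -1, -1, 1, 1, 1, 1, 1, 1, 1, 1, 1, -1, 1, 1, 1, 1, -1, 1, 5]
def yM6 : List ℤ := [1, -1, -1, 1, 1, 1, 1, 1, 1, 1, 1, 1, 1, 1, -1, 1, -1, 1, -1, -1, -1, 1, 1, 3]
def fM6 : List ℤ := [3, 3, 1, 1, 1, 1, -1, 1, 1, 1, 1, 1, 1, -1, -1, 1, 1, -1, 1, 1, 1, -1, -1, 5]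
def fTL : List (List ℤ) := [[],
  [3, 3, -1, 1, 1, 1, 1, 1, 1, 1, 1, 1, -1, 1, 1, 1, 1, -1, 1, -1, -1, 1, -1, 5],
  [],
  [3, -1, -1, 3, 1, 1, 1, 1, 1, 1, 1, 1, 1, -1, 1, 1, 1, 1, -1, 1, -1, -1, 1, 5],
  [3, 1, 1, 1, 3, 1, 1, 1, 1, 1, 1, 1, 1, -1, -1, 1, 1, 1, -1, -1, -1, 1, -1, 5],
  [3, 1, 1, 1, 1, 3, 1, 1, 1, 1, 1, 1, -1, -1, 1, 1, -1, 1, 1, 1, -1, -1, -1, 5],
  [3, 1, 1, -1, 1, 1, 3, 1, 1, 1, 1, 1, 1, -1, 1, -1, -1, 1, -1, 1, 1, 1, -1, 5],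
  [3, 1, -1, 1, 1, 1, 1, 3, 1, 1, 1, 1, -1, -1, 1, 1, -1, 1, -1, -1, 1, 1, 1, 5],
  [3, 1, -1, -1, 1, 1, 1, 1, 3, 1, 1, 1, -1, -1, -1, 1, 1, 1, 1, 1, 1, 1, -1, 5],
  [3, 1, -1, 1, 1, 1, 1, 1, 1, 3, 1, 1, 1, -1, 1, -1, 1, 1, 1, -1, 1, -1, -1, 5],
  [3, 1, 1, 1, 1, 1, 1, 1, 1, 1, 3, 1, 1, 1, 1, -1, 1, -1, -1, 1, -1, -1, -1, 5],
  [3, 1, 1, 1, 1, 1, 1, 1, 1, 1, 1, 3, -1, -1, -1, -1, 1, 1, -1, 1, 1, -1, 1, 5],
  [],
  [],
  [3, 1, -1, 1, 1, 1, 1, 1, 1, 1, 1, 1, 1, -1, 3, -1, -1, -1, 1, 1, -1, 1, 1, 5],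
  [],
  [3, 1, -1, 1, 1, 1, 1, 1, 1, 1, 1, 1, 1, -1, -1, -1, 3, -1, 1, 1, -1, 1, 1, 5],
  [3, 1, -1, 1, 1, 1, 1, 1, 1, 1, 1, 1, 1, -1, -1, -1, -1, 3, 1, 1, -1, 1, 1, 5],
  [],
  [3, -1, -1, 1, 1, 1, 1, 1, 1, 1, 1, 1, -1, 1, 1, 1, 1, -1, 1, 3, -1, 1, -1, 5],
  [],
  [3, -1, -1, -1, 1, 1, 1, 1, 1, 1, 1, 1, 1, -1, 1, 1, 1, 1, -1, 1, -1, 3, 1, 5],
  [],
  []]
theorem yM5_ok : chkL (vec yM5) = true := by decide +kernel
theorem yM6_ok : chkL (vec yM6) = true := by decide +kernel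
theorem yM5_val : ∀ i, vec yM5 i = if i ∈ S O5m then 2 else 0 := by decide +kernel
theorem yM6_val : ∀ i, vec yM6 i = if i = none then 3 else if i ∈ S O6m then -1 else 1 := by decide +kernel
theorem fM5_ok : chk4 (pt 1) yM5 fM5 32 = true := by decide +kernel
theorem fM6_ok : chk4 (pt 1) yM6 fM6 16 = true := by decide +kernel
theorem fTL_ok : ∀ b : GolayPt, b = none ∨ b = pt 0 ∨ b ∈ S O3m ∨ chk4 b xCl (fTL.getD (idx b) []) 32 = true := by decide +kernel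

/-! ### the two cases -/

theorem exists16' {y : leechLattice} (hy : X24 y) (he : (y : GolayPt → ℤ) none + (y : GolayPt → ℤ) (pt 0) = 4)
    (hd : (y : GolayPt → ℤ) none + (y : GolayPt → ℤ) (pt 1) = 4) : E4 uS vS (xv (pt 1)) y 32 := by
  have hxn : (xv (pt 1) : GolayPt → ℤ) none = 4 := by rw [xv_sh pt1_ne none, if_pos rfl]
  rcases types24 hy.1 hy.2 with ⟨b, hb, hs⟩ | ⟨O, hO, h0, hv⟩ | ⟨r, hr, hv⟩ | ⟨O, hO, h0, hv⟩
  · have h := e8_E4 (y := y) hxn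
    rw [hs none, if_pos rfl] at h
    exact h
  · have h1 : pt 0 ∈ O := by
      by_contra hh
      rw [hv, hv, if_pos h0, if_neg hh] at he; norm_num at he
    have h2 : pt 1 ∈ O := by
      by_contra hh
      rw [hv, hv, if_pos h0, if_neg hh] at hd; norm_num at hd
    obtain ⟨σ, hσ, e1, e2, e3, e4⟩ := oct3 hO O5m_mem h0 O5m_in.1 h1 h2 O5m_in.2.1 O5m_in.2.2 pt0_ne pt1_ne pt01 pt0_ne pt1_ne pt01
    refine red4 pt1_ne hσ e2 e3 e4 yM5_ok fM5_ok fun i => ?_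
    rw [yM5_val, hv, ← e1]
    have m1 := mem_smul_iff' (rfl : σ • O = σ • O) i
    simp only [m1]
  · exfalso
    have h2 := hv (pt 0)
    have h3 := hv none
    rw [if_neg hr.symm] at h3
    split_ifs at h2 <;> omega
  · have h1 : pt 0 ∉ O := by
      intro hh
      rw [hv, hv, if_pos rfl, if_neg pt0_ne, if_pos hh] at he; norm_num at he
    have h2 : pt 1 ∉ O := by
      intro hh
      rw [hv, hv, if_pos rfl, if_neg pt1_ne, if_pos hh] at hd; norm_num at hd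
    obtain ⟨σ, hσ, e1, e2, e3⟩ := octq hO O3m_mem h0 h1 O3m_in.1 O3m_in.2
    have m1 : ∀ i, i ∈ O ↔ σ i ∈ S O3m := fun i => mem_smul_iff' e1 i
    have hb0 : σ (pt 1) ≠ none := fun h => pt1_ne (σ.injective (h.trans e2.symm))
    have hb1 : σ (pt 1) ≠ pt 0 := fun h => pt01 (σ.injective (e3.trans h.symm))
    have hb2 : σ (pt 1) ∉ S O3m := fun h => h2 ((m1 _).2 h)
    have hchk := ((fTL_ok (σ (pt 1))).resolve_left hb0).resolve_left hb1 |>.resolve_left hb2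
    refine red4 hb0 hσ e2 e3 rfl xCl_ok hchk fun i => ?_
    rw [xCl_val, hv]
    have m2 : σ i = none ↔ i = none := ⟨fun h => σ.injective (h.trans e2.symm), fun h => by rw [h, e2]⟩
    simp only [m1 i, m2]

theorem exists8' {y : leechLattice} (hy : X24 y) (he : (y : GolayPt → ℤ) none + (y : GolayPt → ℤ) (pt 0) = 4)
    (hd : (y : GolayPt → ℤ) none + (y : GolayPt → ℤ) (pt 1) = 2) : E4 uS vS (xv (pt 1)) y 16 := by
  have hxn : (xv (pt 1) : GolayPt → ℤ) none = 4 := by rw [xv_sh pt1_ne none, if_pos rfl]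
  rcases types24 hy.1 hy.2 with ⟨b, hb, hs⟩ | ⟨O, hO, h0, hv⟩ | ⟨r, hr, hv⟩ | ⟨O, hO, h0, hv⟩
  · exfalso
    have h2 := hs none
    have h3 := hs (pt 1)
    rw [if_pos rfl] at h2
    rw [if_neg pt1_ne] at h3
    split_ifs at h3 <;> omega
  · have h := e8_E4 (y := y) hxn
    rw [hv none, if_pos h0] at h
    exact h
  · exfalso
    have h2 := hv (pt 0)
    have h3 := hv none
    rw [if_neg hr.symm] at h3
    split_ifs at h2 <;> omega
  · have h1 : pt 0 ∉ O := by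
      intro hh
      rw [hv, hv, if_pos rfl, if_neg pt0_ne, if_pos hh] at he; norm_num at he
    have h2 : pt 1 ∈ O := by
      by_contra hh
      rw [hv, hv, if_pos rfl, if_neg pt1_ne, if_neg hh] at hd; norm_num at hd
    obtain ⟨σ, hσ, e1, e2, e3, e4⟩ := octr hO O6m_mem h0 h2 h1 pt1_ne O6m_in.1 O6m_in.2.2 O6m_in.2.1 pt1_ne
    refine red4 pt1_ne hσ e2 e4 e3 yM6_ok fM6_ok fun i => ?_
    rw [yM6_val, hv, ← e1]
    have m1 := mem_smul_iff' (rfl : σ • O = σ • O) i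
    have m2 : σ i = none ↔ i = none := ⟨fun h => σ.injective (h.trans e2.symm), fun h => by rw [h, e2]⟩
    simp only [m1, m2]

end Cfsg.Agent.H9.Leech
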