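import Cfsg.Agent.H9.Leech.Irr
set_option autoImplicit false

/-! Invariant isotropic subgroups of the lattice modulo 2. -/

namespace Cfsg.Agent.H9.Leech
open Cfsg Cfsg.Agent.H9
open scoped Pointwise

structure Inv (a : leechLattice) (D : AddSubgroup leechLattice) : Prop where
  two : ∀ v : leechLattice, v + v ∈ D
  mem : a ∈ D
  iso : ∀ v ∈ D, ∀ w ∈ D, dotInt (v : GolayPt → ℤ) (w : GolayPt → ℤ) % 16 = 0
  inv : ∀ g : Co0, (∃ z : leechLattice, g • a - a = z + z) → ∀ v ∈ D, g • v ∈ D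

def smulHom (g : Co0) : leechLattice →+ leechLattice := AddMonoidHom.mk' (fun v => g • v) (smul_add' g)

theorem Inv.transport {a b : leechLattice} {D : AddSubgroup leechLattice} (h : Inv a D) (g : Co0)
    (hg : ∃ z : leechLattice, g • a - b = z + z) : Inv b (D.map (smulHom g)) where
  two v := ⟨g⁻¹ • v + g⁻¹ • v, h.two _, by
    change g • (g⁻¹ • v + g⁻¹ • v) = v + v
    rw [smul_add', smul_inv_smul]⟩
  mem := by
    obtain ⟨z, hz⟩ := hg
    refine ⟨a - (g⁻¹ • z + g⁻¹ • z), D.sub_mem h.mem (h.two _), ?_⟩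
    change g • (a - (g⁻¹ • z + g⁻¹ • z)) = b
    rw [smul_sub', smul_add', smul_inv_smul, ← hz]; abel
  iso := by
    rintro _ ⟨v, hv, rfl⟩ _ ⟨w, hw, rfl⟩
    change dotInt ((g • v : leechLattice) : GolayPt → ℤ) ((g • w : leechLattice) : GolayPt → ℤ) % 16 = 0
    rw [dot_smul]; exact h.iso v hv w hw
  inv := by
    rintro k ⟨y, hy⟩ _ ⟨v, hv, rfl⟩
    obtain ⟨z, hz⟩ := hg
    refine ⟨(g⁻¹ * k * g) • v, h.inv (g⁻¹ * k * g) ?_ v hv, ?_⟩
    · have h1 : g • a = b + (z + z) := by rw [← hz]; abel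
      have h2 : k • b = b + (y + y) := by rw [← hy]; abel
      refine ⟨g⁻¹ • (k • z) + g⁻¹ • y - g⁻¹ • z, ?_⟩
      have h3 : (g⁻¹ * k * g) • a = g⁻¹ • b + (g⁻¹ • y + g⁻¹ • y) + (g⁻¹ • (k • z) + g⁻¹ • (k • z)) := by
        rw [mul_smul, mul_smul, h1, smul_add', smul_add', h2, smul_add', smul_add', smul_add', smul_add']
      have h4 : a = g⁻¹ • b + (g⁻¹ • z + g⁻¹ • z) := by
        rw [← smul_add', ← smul_add', ← h1, inv_smul_smul]
      rw [h3]
      nth_rewrite 1 [h4]
      abel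
    · change g • ((g⁻¹ * k * g) • v) = k • (g • v)
      rw [mul_smul, mul_smul, smul_inv_smul]

/-! ### restriction to a code word -/

noncomputable def eps (C : Finset GolayPt) (hC : C ∈ Cd) : Co0 := mono 1 M24.one_mem C hC

theorem eps_smul {C : Finset GolayPt} (hC : C ∈ Cd) (v : leechLattice) (i : GolayPt) :
    ((eps C hC • v : leechLattice) : GolayPt → ℤ) i = if i ∈ C then -(v : GolayPt → ℤ) i else (v : GolayPt → ℤ) i := by
  rw [eps, mono_smul]; rfl

noncomputable def res (C : Finset GolayPt) (hC : C ∈ Cd) (v : leechLattice) : leechLattice := v - eps C hC • v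

theorem res_val {C : Finset GolayPt} (hC : C ∈ Cd) (v : leechLattice) (i : GolayPt) :
    (res C hC v : GolayPt → ℤ) i = if i ∈ C then 2 * (v : GolayPt → ℤ) i else 0 := by
  change (v : GolayPt → ℤ) i - ((eps C hC • v : leechLattice) : GolayPt → ℤ) i = _
  rw [eps_smul]; split_ifs <;> ring

theorem dot_res {C : Finset GolayPt} (hC : C ∈ Cd) (v w : leechLattice) :
    dotInt (v : GolayPt → ℤ) (res C hC w) = 2 * ∑ i ∈ C, (v : GolayPt → ℤ) i * (w : GolayPt → ℤ) i := by
  unfold dotInt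
  have : ∀ i, (v : GolayPt → ℤ) i * (res C hC w : GolayPt → ℤ) i = if i ∈ C then 2 * ((v : GolayPt → ℤ) i * (w : GolayPt → ℤ) i) else 0 := by
    intro i; rw [res_val]; split_ifs <;> ring
  rw [Finset.sum_congr rfl (fun i _ => this i), Finset.sum_ite_mem, Finset.univ_inter, Finset.mul_sum]

/-- multiples of 8 -/
theorem eight_zero {w : leechLattice} (z : GolayPt → ℤ) (hz : ∀ i, (w : GolayPt → ℤ) i = 8 * z i) (hs : (∑ i, z i) % 2 = 0) :
    ∃ y : leechLattice, w = y + y := by
  refine ⟨⟨_, four_mem hs⟩, Subtype.ext ?_⟩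
  funext i
  change (w : GolayPt → ℤ) i = 4 * z i + 4 * z i
  rw [hz]; ring

theorem eight_one {w : leechLattice} (z : GolayPt → ℤ) (hz : ∀ i, (w : GolayPt → ℤ) i = 8 * z i) (hs : (∑ i, z i) % 2 = 1) :
    ∃ y : leechLattice, w - e8 none = y + y := by
  refine eight_zero (fun i => z i - (Pi.single none 1 : GolayPt → ℤ) i) (fun i => ?_) ?_
  · change (w : GolayPt → ℤ) i - (Pi.single none 8 : GolayPt → ℤ) i = _
    rw [hz, single_apply', single_apply']; split_ifs <;> ring
  · rw [Finset.sum_sub_distrib, sum_single']; omega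

/-- a vector divisible by 4 with odd part meeting a code word oddly -/
theorem res_eight {C : Finset GolayPt} (hC : C ∈ Cd) {v : leechLattice} (hv : ∀ i, (v : GolayPt → ℤ) i % 4 = 0)
    (hodd : ¬ 2 ∣ (C ∩ Finset.univ.filter fun i => (v : GolayPt → ℤ) i % 8 = 4).card) :
    ∃ y : leechLattice, res C hC v - e8 none = y + y := by
  refine eight_one (fun i => if i ∈ C then (v : GolayPt → ℤ) i / 4 else 0) (fun i => ?_) ?_
  · rw [res_val]; have := hv i; split_ifs <;> omega
  · have h1 : ∀ i, ∃ k, (if i ∈ C then (v : GolayPt → ℤ) i / 4 else 0) =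
        ind (C ∩ Finset.univ.filter fun i => (v : GolayPt → ℤ) i % 8 = 4) i + 2 * k := by
      intro i
      unfold ind
      have := hv i
      by_cases h1 : i ∈ C
      · by_cases h2 : (v : GolayPt → ℤ) i % 8 = 4
        · rw [if_pos h1, if_pos (by simp [h1, h2])]; exact ⟨((v : GolayPt → ℤ) i / 4 - 1) / 2, by omega⟩
        · rw [if_pos h1, if_neg (by simp [h2])]; exact ⟨((v : GolayPt → ℤ) i / 4) / 2, by omega⟩
      · rw [if_neg h1, if_neg (by simp [h1])]; exact ⟨0, by norm_num⟩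
    choose k hk using h1
    rw [Finset.sum_congr rfl (fun i _ => hk i), Finset.sum_add_distrib, ← Finset.mul_sum, sum_ind]
    omega

theorem Inv.of_cong {a : leechLattice} {D : AddSubgroup leechLattice} (h : Inv a D) {v w : leechLattice} (hv : v ∈ D)
    (hc : ∃ y : leechLattice, v - w = y + y) : w ∈ D := by
  obtain ⟨y, hy⟩ := hc
  have : w = v - (y + y) := by rw [← hy]; abel
  rw [this]; exact D.sub_mem hv (h.two y)

/-- allowed code words -/
def Alw (a : leechLattice) (C : Finset GolayPt) (hC : C ∈ Cd) : Prop := ∃ z : leechLattice, eps C hC • a - a = z + z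

theorem Inv.res_mem {a : leechLattice} {D : AddSubgroup leechLattice} (h : Inv a D) {C : Finset GolayPt} {hC : C ∈ Cd}
    (hA : Alw a C hC) {v : leechLattice} (hv : v ∈ D) : res C hC v ∈ D := D.sub_mem hv (h.inv _ hA v hv)

theorem odd_sq {a : ℤ} (h : a % 2 = 1) : (a * a) % 8 = 1 := by
  have h2 : a % 8 = 1 ∨ a % 8 = 3 ∨ a % 8 = 5 ∨ a % 8 = 7 := by omega
  rcases h2 with h2 | h2 | h2 | h2 <;> rw [Int.mul_emod, h2] <;> norm_num

/-- no odd vectors -/
theorem Inv.no_odd {a : leechLattice} {D : AddSubgroup leechLattice} (h : Inv a D) {C C' : Finset GolayPt} {hC : C ∈ Cd}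
    {hC' : C' ∈ Cd} (hA : Alw a C hC) (hA' : Alw a C' hC') (h2 : (C ∩ C').card = 2) {v : leechLattice} (hv : v ∈ D) :
    ¬ ∀ i, (v : GolayPt → ℤ) i % 2 = 1 := by
  intro ho
  have h1 := h.iso _ (h.res_mem hA' hv) _ (h.res_mem hA hv)
  rw [dot_res] at h1
  obtain ⟨p, q, hpq, hs⟩ := Finset.card_eq_two.1 h2
  have h3 : ∑ i ∈ C, (res C' hC' v : GolayPt → ℤ) i * (v : GolayPt → ℤ) i =
      2 * ((v : GolayPt → ℤ) p * (v : GolayPt → ℤ) p + (v : GolayPt → ℤ) q * (v : GolayPt → ℤ) q) := by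
    have : ∀ i ∈ C, (res C' hC' v : GolayPt → ℤ) i * (v : GolayPt → ℤ) i = if i ∈ C' then 2 * ((v : GolayPt → ℤ) i * (v : GolayPt → ℤ) i) else 0 := by
      intro i _; rw [res_val]; split_ifs <;> ring
    rw [Finset.sum_congr rfl this, Finset.sum_ite_mem, hs, Finset.sum_pair hpq]; ring
  rw [h3] at h1
  have e1 := odd_sq (ho p)
  have e2 := odd_sq (ho q)
  generalize (v : GolayPt → ℤ) p * (v : GolayPt → ℤ) p = x at *
  generalize (v : GolayPt → ℤ) q * (v : GolayPt → ℤ) q = y at *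
  omega

/-- five octads meeting every nontrivial code word in four points -/
def oc5 : ℕ := 66854343080913147668869504914333699

theorem oc5_ok : allN (fun n => band (isCW (look24 oc5 n)) (band (Nat.beq (pc (look24 oc5 n)) 8)
    (Nat.beq (Nat.land (pc (Nat.land (look24 oc5 n) 3)) 1) 0))) 5 = true := by decide +kernel
theorem oc5_cov : allR (fun k => @Bool.rec (fun _ => Bool) (@Bool.rec (fun _ => Bool)
    (anyN (fun n => Nat.beq (pc (Nat.land (look24 oc5 n) (enc k))) 4) 5) true (Nat.beq (enc k) 16777215)) true (Nat.beq k 0)) 12 0 = true := by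
  decide +kernel

theorem exists_four {C0 : Finset GolayPt} (h0 : C0 ∈ Cd) (h1 : C0 ≠ ∅) (h2 : C0 ≠ Finset.univ) :
    ∃ C, ∃ _ : C ∈ Cd, C.card = 8 ∧ (C ∩ C0).card = 4 ∧ (pt 0 ∈ C ↔ pt 1 ∈ C) := by
  obtain ⟨k, hk, rfl⟩ := mem_supports_iff.1 h0
  have h3 := allR_spec oc5_cov k (Nat.zero_le _) (by simpa using hk)
  have hb1 : Nat.beq k 0 = false := by
    cases hb : Nat.beq k 0
    · rfl
    · exact absurd (by rw [Nat.eq_of_beq_eq_true hb, enc_zero, S_zero]) h1
  have hb2 : Nat.beq (enc k) 16777215 = false := by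
    cases hb : Nat.beq (enc k) 16777215
    · rfl
    · exact absurd (by rw [Nat.eq_of_beq_eq_true hb, S_full]) h2
  simp only [hb1, hb2] at h3
  obtain ⟨n, hn, h4⟩ := anyN_spec h3
  obtain ⟨h5, h6⟩ := band_iff.1 ((allN_iff _ _).1 oc5_ok n hn)
  obtain ⟨h6, h7⟩ := band_iff.1 h6
  refine ⟨S (look24 oc5 n), cd_iff.2 ⟨_, h5, rfl⟩, by rw [card_S]; exact Nat.eq_of_beq_eq_true h6, ?_, ?_⟩
  · rw [pc_and]; exact Nat.eq_of_beq_eq_true h4
  · have h8 := Nat.eq_of_beq_eq_true h7
    have h9 : (S (look24 oc5 n) ∩ S 3).card = pc (Nat.land (look24 oc5 n) 3) := pc_and _ _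
    have h10 : S 3 = {pt 0, pt 1} := by
      have e : (3 : ℕ) = 2 ^ 0 ||| 2 ^ 1 := by decide
      rw [e, S_or, S_two_pow (by norm_num), S_two_pow (by norm_num)]; rfl
    have h11 : pc (Nat.land (look24 oc5 n) 3) % 2 = 0 := by
      rw [← Nat.and_one_is_mod]; exact h8
    rw [← h9, h10] at h11
    have hne : pt 0 ≠ pt 1 := by decide +kernel
    by_cases ha : pt 0 ∈ S (look24 oc5 n) <;> by_cases hb : pt 1 ∈ S (look24 oc5 n)
    · simp [ha, hb]
    · exfalso
      have : S (look24 oc5 n) ∩ {pt 0, pt 1} = {pt 0} := by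
        ext i; simp only [Finset.mem_inter, Finset.mem_insert, Finset.mem_singleton]
        constructor
        · rintro ⟨h, rfl | rfl⟩
          · rfl
          · exact absurd h hb
        · rintro rfl; exact ⟨ha, Or.inl rfl⟩
      rw [this] at h11; simp at h11
    · exfalso
      have : S (look24 oc5 n) ∩ {pt 0, pt 1} = {pt 1} := by
        ext i; simp only [Finset.mem_inter, Finset.mem_insert, Finset.mem_singleton]
        constructor
        · rintro ⟨h, rfl | rfl⟩
          · exact absurd h ha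
          · rfl
        · rintro rfl; exact ⟨hb, Or.inr rfl⟩
      rw [this] at h11; simp at h11
    · simp [ha, hb]

/-- an even vector with nontrivial residue word produces `e8` -/
theorem Inv.even_step {a : leechLattice} {D : AddSubgroup leechLattice} (h : Inv a D)
    (hall : ∀ C, ∀ hC : C ∈ Cd, (pt 0 ∈ C ↔ pt 1 ∈ C) → Alw a C hC)
    {v : leechLattice} (hv : v ∈ D) (he : ∀ i, (v : GolayPt → ℤ) i % 2 = 0) (h1 : TT (v : GolayPt → ℤ) ≠ ∅)
    (h2 : TT (v : GolayPt → ℤ) ≠ Finset.univ) : e8 none ∈ D := by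
  have hT := (mem_iff.1 v.2).1
  obtain ⟨C, hC, hC8, hC4, hCa⟩ := exists_four hT h1 h2
  have hy := h.res_mem (hall C hC hCa) hv
  have hyA : (Finset.univ.filter fun i => (res C hC v : GolayPt → ℤ) i % 8 = 4) = C ∩ TT (v : GolayPt → ℤ) := by
    ext i
    simp only [Finset.mem_filter, Finset.mem_univ, true_and, Finset.mem_inter, mem_TT, res_val]
    have := he i
    by_cases hi : i ∈ C
    · simp only [hi, if_true, true_and]; omega
    · simp [hi]
  have hy4 : ∀ i, (res C hC v : GolayPt → ℤ) i % 4 = 0 := by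
    intro i; rw [res_val]; have := he i; split_ifs <;> omega
  -- a code word meeting the four-set oddly
  obtain ⟨A, hA⟩ : ∃ A, A = C ∩ TT (v : GolayPt → ℤ) := ⟨_, rfl⟩
  rw [← hA] at hC4 hyA
  obtain ⟨x, hx, hx'⟩ : ∃ x ∈ A, x ∉ ({pt 0, pt 1} : Finset GolayPt) := by
    apply Finset.exists_mem_notMem_of_card_lt_card
    rw [hC4]; exact lt_of_le_of_lt Finset.card_le_two (by norm_num)
  obtain ⟨C1, hC1, h3⟩ := restrict (Z := A ∪ {pt 0, pt 1}) (A := {x}) (by
    intro i hi; rw [Finset.mem_singleton.1 hi]; exact Finset.mem_union_left _ hx) (by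
    intro B hB hsub
    rcases Finset.eq_empty_or_nonempty B with h0 | h0
    · rw [h0]; simp
    · have e1 := Finset.card_le_card hsub
      have e2 := (Finset.card_union_le A {pt 0, pt 1}).trans (Nat.add_le_add_left Finset.card_le_two _)
      have e3 := Finset.card_pos.2 h0
      rcases cd_card hB with h | h | h | h | h <;> omega)
  have hp0 : pt 0 ∉ C1 := fun hh => hx' (by
    have := (h3 (pt 0) (by simp)).1 hh
    rw [← Finset.mem_singleton.1 this]; simp)
  have hp1 : pt 1 ∉ C1 := fun hh => hx' (by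
    have := (h3 (pt 1) (by simp)).1 hh
    rw [← Finset.mem_singleton.1 this]; simp)
  have hinter : C1 ∩ A = {x} := by
    ext i
    rw [Finset.mem_inter]
    constructor
    · rintro ⟨h4, h5⟩; exact (h3 i (Finset.mem_union_left _ h5)).1 h4
    · intro h4; rw [Finset.mem_singleton.1 h4]
      exact ⟨(h3 x (Finset.mem_union_left _ hx)).2 (by simp), hx⟩
  have h4 := h.res_mem (hall C1 hC1 (by simp [hp0, hp1])) hy
  exact h.of_cong h4 (res_eight hC1 hy4 (by rw [hyA, hinter]; simp))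

/-- duality relative to the two points -/
theorem rel_dual {A : Finset GolayPt} {p q : GolayPt} (hpq : p ≠ q)
    (h : ∀ C ∈ Cd, (p ∈ C ↔ q ∈ C) → 2 ∣ (C ∩ A).card) : A ∈ Cd ∨ symmDiff A {p, q} ∈ Cd := by
  by_cases hall : ∀ C ∈ Cd, 2 ∣ (A ∩ C).card
  · exact Or.inl (selfdual hall)
  right
  push Not at hall
  obtain ⟨C0, hC0, h0⟩ := hall
  have hpq2 : ∀ C : Finset GolayPt, (({p, q} : Finset GolayPt) ∩ C).card = (if p ∈ C then 1 else 0) + (if q ∈ C then 1 else 0) := by
    intro C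
    rw [Finset.card_eq_sum_ones, ← Finset.sum_filter_add_sum_filter_not _ (fun i => i = p)]
    have e : ∀ i, i ∈ ({p, q} : Finset GolayPt) ∩ C ↔ (i = p ∧ p ∈ C) ∨ (i = q ∧ q ∈ C) := by
      intro i; simp only [Finset.mem_inter, Finset.mem_insert, Finset.mem_singleton]
      constructor
      · rintro ⟨rfl | rfl, hh⟩
        · exact Or.inl ⟨rfl, hh⟩
        · exact Or.inr ⟨rfl, hh⟩
      · rintro (⟨rfl, hh⟩ | ⟨rfl, hh⟩)
        · exact ⟨Or.inl rfl, hh⟩
        · exact ⟨Or.inr rfl, hh⟩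
    congr 1
    · by_cases hp : p ∈ C
      · have : ((({p, q} : Finset GolayPt) ∩ C).filter fun i => i = p) = {p} := by
          ext i; rw [Finset.mem_filter, e, Finset.mem_singleton]
          constructor
          · rintro ⟨_, h⟩; exact h
          · rintro rfl; exact ⟨Or.inl ⟨rfl, hp⟩, rfl⟩
        rw [this, if_pos hp]; simp
      · have : ((({p, q} : Finset GolayPt) ∩ C).filter fun i => i = p) = ∅ := by
          ext i; rw [Finset.mem_filter, e]
          constructor
          · rintro ⟨⟨rfl, h⟩ | ⟨h1, _⟩, h2⟩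
            · exact absurd h hp
            · exact absurd (h2.symm.trans h1) hpq
          · intro h; exact absurd h (Finset.notMem_empty _)
        rw [this, if_neg hp]; simp
    · by_cases hq : q ∈ C
      · have : ((({p, q} : Finset GolayPt) ∩ C).filter fun i => ¬ i = p) = {q} := by
          ext i; rw [Finset.mem_filter, e, Finset.mem_singleton]
          constructor
          · rintro ⟨⟨h, _⟩ | ⟨h, _⟩, h2⟩
            · exact absurd h h2
            · exact h
          · rintro rfl; exact ⟨Or.inr ⟨rfl, hq⟩, fun h => hpq h.symm⟩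
        rw [this, if_pos hq]; simp
      · have : ((({p, q} : Finset GolayPt) ∩ C).filter fun i => ¬ i = p) = ∅ := by
          ext i; rw [Finset.mem_filter, e]
          constructor
          · rintro ⟨⟨h, _⟩ | ⟨_, h1⟩, h2⟩
            · exact absurd h h2
            · exact absurd h1 hq
          · intro h; exact absurd h (Finset.notMem_empty _)
        rw [this, if_neg hq]; simp
  have hC0n : ¬ (p ∈ C0 ↔ q ∈ C0) := by
    intro hh; apply h0; rw [Finset.inter_comm]; exact h C0 hC0 hh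
  apply selfdual
  intro C hC
  have hsum : (symmDiff A {p, q} ∩ C).card + 2 * (A ∩ C ∩ ({p, q} ∩ C)).card = (A ∩ C).card + (({p, q} : Finset GolayPt) ∩ C).card := by
    have e : symmDiff A {p, q} ∩ C = symmDiff (A ∩ C) ({p, q} ∩ C) := by
      ext i; simp only [Finset.mem_inter, Finset.mem_symmDiff]; tauto
    rw [e]; exact card_symmDiff' _ _
  have h1 := hpq2 C
  by_cases hCa : (p ∈ C ↔ q ∈ C)
  · have h2 := h C hC hCa
    rw [Finset.inter_comm] at h2
    by_cases hp : p ∈ C
    · rw [if_pos hp, if_pos (hCa.1 hp)] at h1; omega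
    · rw [if_neg hp, if_neg (fun hh => hp (hCa.2 hh))] at h1; omega
  · have h2 := h (symmDiff C C0) (cd_symm hC hC0) (by
      simp only [Finset.mem_symmDiff]; tauto)
    have h3 : (symmDiff C C0 ∩ A).card + 2 * (C ∩ A ∩ (C0 ∩ A)).card = (C ∩ A).card + (C0 ∩ A).card := by
      have e : symmDiff C C0 ∩ A = symmDiff (C ∩ A) (C0 ∩ A) := by
        ext i; simp only [Finset.mem_inter, Finset.mem_symmDiff]; tauto
      rw [e]; exact card_symmDiff' _ _
    rw [Finset.inter_comm C A, Finset.inter_comm C0 A] at h3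
    have h4 : (({p, q} : Finset GolayPt) ∩ C).card = 1 := by
      rw [h1]
      by_cases hp : p ∈ C
      · have hq : q ∉ C := fun hh => hCa ⟨fun _ => hh, fun _ => hp⟩
        rw [if_pos hp, if_neg hq]
      · have hq : q ∈ C := by by_contra hh; exact hCa ⟨fun h' => absurd h' hp, fun h' => absurd h' hh⟩
        rw [if_neg hp, if_pos hq]
    have h5 : ((symmDiff C C0 ∩ A).card) % 2 = 0 := by omega
    omega

/-! ### the element moving the frame -/

noncomputable def chkP (P : ℕ) (l l' : List ℤ) : Bool := chkL (vec l) && checkM24 P && decide (∀ i, vec l' (pt (im P (idx i))) = vec l i)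

theorem maps_of_chkP {P : ℕ} {l l' : List ℤ} (h : chkP P l l' = true) :
    ∃ hσ : toPerm P ∈ M24, Maps (mono (toPerm P) hσ ∅ cd_empty) (vec l) (vec l') := by
  unfold chkP at h
  simp only [Bool.and_eq_true, decide_eq_true_eq] at h
  obtain ⟨⟨h1, h2⟩, h3⟩ := h
  refine ⟨checkM24_mem h2, ?_⟩
  have h4 := mono_maps (checkM24_mem h2) cd_empty (mem_of_chk h1)
  have : signedPerm (toPerm P) ∅ (vec l) = vec l' := by
    funext j
    obtain ⟨i, rfl⟩ := (toPerm P).surjective j
    unfold signedPerm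
    rw [if_neg (Finset.notMem_empty _), Equiv.symm_apply_apply, ← h3 i, toPerm_apply (checkM24_perm h2)]
  rw [this] at h4; exact h4

def etaP0 : ℕ := 671248138808135993651771009919910610
def etaP1 : ℕ := 933442467756156829395453905154868843
def etaP2 : ℕ := 843025270746303971137549986470855044
def etaE0 : List ℤ := [0, 0, 0, 0, 0, 0, 0, 0, 0, 0, 0, 0, 0, 0, 0, 0, 0, 0, 0, 0, 0, 0, 0, 8]
def etaE1 : List ℤ := [0, 0, 0, 0, 0, 4, 0, 0, 0, 0, 0, 0, 0, 0, 4, 0, 0, 4, 0, 0, 0, 0, 0, -4]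
def etaE2 : List ℤ := [0, 0, 0, 0, 0, 0, 0, 0, 0, 0, 0, 4, 0, 0, 0, 0, -4, 0, 0, 4, 0, 4, 0, 0]
def etaE3 : List ℤ := [0, 0, 0, 0, 0, 0, 2, 0, 0, 2, 0, -2, 0, 2, 0, 0, 4, 0, 2, -4, 2, -2, 2, 0]
def etaE4 : List ℤ := [0, 0, 0, -2, 2, 4, 0, -2, -4, 2, 0, 0, 2, 0, 0, 2, 0, 0, 0, 0, 2, 0, 0, 2]
def etaE5 : List ℤ := [1, 1, 1, -1, -1, -1, 1, 3, 3, -1, 1, 1, -1, 1, 3, -3, -1, 3, 1, -1, -1, 1, 1, 1]
def etaE6 : List ℤ := [1, -1, -1, 3, 1, -1, -1, 1, 3, 1, -1, 1, 1, -1, 1, 3, 3, 1, -1, -3, 1, -1, 1, 1]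
def etaA0 : List ℤ := [4, 4, 0, 0, 0, 0, 0, 0, 0, 0, 0, 0, 0, 0, 0, 0, 0, 0, 0, 0, 0, 0, 0, 0]
def etaA1 : List ℤ := [0, 0, -4, -4, 0, 0, 0, 0, 0, 0, 0, 0, 0, 0, 0, 0, 0, 0, 0, 0, 0, 0, 0, 0]
def etaA2 : List ℤ := [-4, -4, 0, 0, 0, 0, 0, 0, 0, 0, 0, 0, 0, 0, 0, 0, 0, 0, 0, 0, 0, 0, 0, 0]
def etaA3 : List ℤ := [0, 0, 4, 4, 0, 0, 0, 0, 0, 0, 0, 0, 0, 0, 0, 0, 0, 0, 0, 0, 0, 0, 0, 0]
def etaA4 : List ℤ := [4, 4, 0, 0, 0, 0, 0, 0, 0, 0, 0, 0, 0, 0, 0, 0, 0, 0, 0, 0, 0, 0, 0, 0]
def etaA5 : List ℤ := [0, 0, -4, -4, 0, 0, 0, 0, 0, 0, 0, 0, 0, 0, 0, 0, 0, 0, 0, 0, 0, 0, 0, 0]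
def etaA6 : List ℤ := [-4, -4, 0, 0, 0, 0, 0, 0, 0, 0, 0, 0, 0, 0, 0, 0, 0, 0, 0, 0, 0, 0, 0, 0]
theorem etaE_x0 : chkXi etaE0 etaE1 = true := by decide +kernel
theorem etaE_p0 : chkP etaP0 etaE1 etaE2 = true := by decide +kernel
theorem etaE_x1 : chkXi etaE2 etaE3 = true := by decide +kernel
theorem etaE_p1 : chkP etaP1 etaE3 etaE4 = true := by decide +kernel
theorem etaE_x2 : chkXi etaE4 etaE5 = true := by decide +kernel
theorem etaE_p2 : chkP etaP2 etaE5 etaE6 = true := by decide +kernel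
theorem etaA_x0 : chkXi etaA0 etaA1 = true := by decide +kernel
theorem etaA_p0 : chkP etaP0 etaA1 etaA2 = true := by decide +kernel
theorem etaA_x1 : chkXi etaA2 etaA3 = true := by decide +kernel
theorem etaA_p1 : chkP etaP1 etaA3 etaA4 = true := by decide +kernel
theorem etaA_x2 : chkXi etaA4 etaA5 = true := by decide +kernel
theorem etaA_p2 : chkP etaP2 etaA5 etaA6 = true := by decide +kernel

theorem eta_e0 : ∀ i, vec etaE0 i = (Pi.single none 8 : GolayPt → ℤ) i := by decide +kernel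
theorem eta_odd : ∀ i, vec etaE6 i % 2 = 1 := by decide +kernel
theorem eta_a : ∀ i, vec etaA6 i - vec etaA0 i = -2 * vec etaA0 i := by decide +kernel

def aU : leechLattice := ⟨vec etaA0, mem_of_chk (by decide +kernel)⟩

theorem exists_eta : ∃ g : Co0, (∃ z : leechLattice, g • aU - aU = z + z) ∧ ∀ i, ((g • e8 none : leechLattice) : GolayPt → ℤ) i % 2 = 1 := by
  obtain ⟨h0, m0⟩ := maps_of_chkP etaE_p0
  obtain ⟨h1, m1⟩ := maps_of_chkP etaE_p1
  obtain ⟨h2, m2⟩ := maps_of_chkP etaE_p2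
  obtain ⟨k0, n0⟩ := maps_of_chkP etaA_p0
  obtain ⟨k1, n1⟩ := maps_of_chkP etaA_p1
  obtain ⟨k2, n2⟩ := maps_of_chkP etaA_p2
  have M := (((((xi_of_chk etaE_x0).mul m0).mul (xi_of_chk etaE_x1)).mul m1).mul (xi_of_chk etaE_x2)).mul m2
  have N := (((((xi_of_chk etaA_x0).mul n0).mul (xi_of_chk etaA_x1)).mul n1).mul (xi_of_chk etaA_x2)).mul n2
  refine ⟨mono (toPerm etaP2) h2 ∅ cd_empty * (xi * (mono (toPerm etaP1) h1 ∅ cd_empty * (xi * (mono (toPerm etaP0) h0 ∅ cd_empty * xi)))), ⟨-aU, ?_⟩, ?_⟩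
  · apply Subtype.ext
    funext i
    have e1 : (((mono (toPerm etaP2) h2 ∅ cd_empty * (xi * (mono (toPerm etaP1) h1 ∅ cd_empty * (xi * (mono (toPerm etaP0) h0 ∅ cd_empty * xi))))) • aU : leechLattice) : GolayPt → ℤ) = vec etaA6 := by
      obtain ⟨hm, N'⟩ := N
      exact N'
    change ((_ • aU : leechLattice) : GolayPt → ℤ) i - vec etaA0 i = -vec etaA0 i + -vec etaA0 i
    rw [e1, eta_a]; ring
  · intro i
    have e0 : (Pi.single none 8 : GolayPt → ℤ) = vec etaE0 := by funext j; exact (eta_e0 j).symm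
    obtain ⟨hm, M'⟩ := M
    have e1 : (e8 none : leechLattice) = ⟨vec etaE0, hm⟩ := Subtype.ext e0
    rw [e1, M']
    exact eta_odd i

theorem aU_val : ∀ i, (aU : GolayPt → ℤ) i = if i = pt 0 ∨ i = pt 1 then 4 else 0 := by
  have : ∀ i, vec etaA0 i = if i = pt 0 ∨ i = pt 1 then 4 else 0 := by decide +kernel
  exact this

theorem aU_alw (C : Finset GolayPt) (hC : C ∈ Cd) (h : pt 0 ∈ C ↔ pt 1 ∈ C) : Alw aU C hC := by
  by_cases h0 : pt 0 ∈ C
  · refine ⟨-aU, Subtype.ext (funext fun i => ?_)⟩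
    change ((eps C hC • aU : leechLattice) : GolayPt → ℤ) i - (aU : GolayPt → ℤ) i = -(aU : GolayPt → ℤ) i + -(aU : GolayPt → ℤ) i
    rw [eps_smul, aU_val]
    by_cases h1 : i = pt 0 ∨ i = pt 1
    · have : i ∈ C := by rcases h1 with rfl | rfl; exacts [h0, h.1 h0]
      rw [if_pos this, if_pos h1]; norm_num
    · rw [if_neg h1]; simp
  · refine ⟨0, Subtype.ext (funext fun i => ?_)⟩
    change ((eps C hC • aU : leechLattice) : GolayPt → ℤ) i - (aU : GolayPt → ℤ) i = 0 + 0
    rw [eps_smul, aU_val]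
    by_cases h1 : i = pt 0 ∨ i = pt 1
    · have : i ∉ C := by rcases h1 with rfl | rfl; exacts [h0, fun hh => h0 (h.2 hh)]
      rw [if_neg this]; norm_num
    · rw [if_neg h1]; simp

def oc1 : ℕ := 9347075
def oc2 : ℕ := 16056344
theorem oc1_cw : isCW oc1 = true := by decide +kernel
theorem oc2_cw : isCW oc2 = true := by decide +kernel
theorem oc12 : pc (oc1 &&& oc2) = 2 := by decide +kernel
theorem oc1_pt : (pt 0 ∈ S oc1 ↔ pt 1 ∈ S oc1) := by
  rw [mem_S_pt (by norm_num), mem_S_pt (by norm_num)]; decide +kernel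
theorem oc2_pt : (pt 0 ∈ S oc2 ↔ pt 1 ∈ S oc2) := by
  rw [mem_S_pt (by norm_num), mem_S_pt (by norm_num)]; decide +kernel

/-- division of a vector congruent 0 mod 4: either small or meeting -/
theorem zero_mod4 {v : leechLattice} (hv : ∀ i, (v : GolayPt → ℤ) i % 4 = 0)
    (hA : (Finset.univ.filter fun i => (v : GolayPt → ℤ) i % 8 = 4) ∈ Cd) :
    ∃ y : leechLattice, v = y + y ∨ v - e8 none = y + y := by
  obtain ⟨A, hAd⟩ : ∃ A, A = Finset.univ.filter fun i => (v : GolayPt → ℤ) i % 8 = 4 := ⟨_, rfl⟩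
  rw [← hAd] at hA
  have hm : ∀ i, i ∈ A ↔ (v : GolayPt → ℤ) i % 8 = 4 := by intro i; rw [hAd]; simp
  let w : leechLattice := v - (⟨_, two_ind_mem hA⟩ + ⟨_, two_ind_mem hA⟩)
  have hw : ∀ i, (w : GolayPt → ℤ) i = 8 * ((w : GolayPt → ℤ) i / 8) := by
    intro i
    have h1 : (w : GolayPt → ℤ) i = (v : GolayPt → ℤ) i - (2 * ind A i + 2 * ind A i) := rfl
    rw [h1]
    have := hv i
    unfold ind
    by_cases hi : i ∈ A
    · rw [if_pos hi]; have := (hm i).1 hi; omega
    · rw [if_neg hi]; have : ¬ _ := fun h => hi ((hm i).2 h); omega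
  rcases Int.emod_two_eq (∑ i, (w : GolayPt → ℤ) i / 8) with h | h
  · obtain ⟨y, hy⟩ := eight_zero _ hw h
    refine ⟨y + ⟨_, two_ind_mem hA⟩, Or.inl ?_⟩
    have : v = w + (⟨_, two_ind_mem hA⟩ + ⟨_, two_ind_mem hA⟩) := by simp [w]
    rw [this, hy]; abel
  · obtain ⟨y, hy⟩ := eight_one _ hw h
    refine ⟨y + ⟨_, two_ind_mem hA⟩, Or.inr ?_⟩
    have : v - e8 none = (w - e8 none) + (⟨_, two_ind_mem hA⟩ + ⟨_, two_ind_mem hA⟩) := by simp only [w]; abel
    rw [this, hy]; abel

theorem reduce_even {v : leechLattice} (he : ∀ i, (v : GolayPt → ℤ) i % 2 = 0)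
    (hT : TT (v : GolayPt → ℤ) = ∅ ∨ TT (v : GolayPt → ℤ) = Finset.univ) :
    ∃ y w : leechLattice, v = w + (y + y) ∧ ∀ i, (w : GolayPt → ℤ) i % 4 = 0 := by
  rcases hT with h | h
  · refine ⟨0, v, by simp, fun i => ?_⟩
    have h1 : i ∉ TT (v : GolayPt → ℤ) := by rw [h]; simp
    have h2 : ¬ _ := fun hh => h1 (mem_TT.2 hh)
    have := he i; omega
  · refine ⟨⟨v0, v0_mem⟩, v - (⟨v0, v0_mem⟩ + ⟨v0, v0_mem⟩), by abel, fun i => ?_⟩
    have h1 : i ∈ TT (v : GolayPt → ℤ) := by rw [h]; simp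
    have h2 := mem_TT.1 h1
    change ((v : GolayPt → ℤ) i - (v0 i + v0 i)) % 4 = 0
    rw [v0_val]
    have := he i
    split_ifs <;> omega

/-- the type 2 case -/
theorem L2 {D : AddSubgroup leechLattice} (h : Inv aU D) {v : leechLattice} (hv : v ∈ D) :
    ∃ y : leechLattice, v = y + y ∨ v - aU = y + y := by
  have hno : ∀ w ∈ D, ¬ ∀ i, (w : GolayPt → ℤ) i % 2 = 1 := by
    intro w hw
    exact h.no_odd (aU_alw _ (cd_iff.2 ⟨_, oc1_cw, rfl⟩) oc1_pt) (aU_alw _ (cd_iff.2 ⟨_, oc2_cw, rfl⟩) oc2_pt)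
      (by rw [pc_and]; exact oc12) hw
  have he8 : e8 none ∉ D := by
    intro he
    obtain ⟨g, hg, h1⟩ := exists_eta
    exact hno _ (h.inv g hg _ he) h1
  have heven : ∀ i, (v : GolayPt → ℤ) i % 2 = 0 := by
    rcases (mem_iff.1 v.2).2 with ⟨h1, _⟩ | ⟨h1, _⟩
    · exact h1
    · exact absurd h1 (hno v hv)
  have hT : TT (v : GolayPt → ℤ) = ∅ ∨ TT (v : GolayPt → ℤ) = Finset.univ := by
    by_contra hc
    push Not at hc
    exact he8 (h.even_step aU_alw hv heven (Finset.nonempty_iff_ne_empty.1 hc.1) hc.2)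
  obtain ⟨y, w, hvw, hw4⟩ := reduce_even heven hT
  have hwD : w ∈ D := h.of_cong hv ⟨y, by rw [hvw]; abel⟩
  have hdual := rel_dual (A := Finset.univ.filter fun i => (w : GolayPt → ℤ) i % 8 = 4) (p := pt 0) (q := pt 1) (by decide +kernel) (by
    intro C hC hCa
    by_contra hodd
    exact he8 (h.of_cong (h.res_mem (aU_alw C hC hCa) hwD) (res_eight hC hw4 hodd)))
  rcases hdual with hA | hA
  · obtain ⟨x, hx | hx⟩ := zero_mod4 hw4 hA
    · exact ⟨x + y, Or.inl (by rw [hvw, hx]; abel)⟩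
    · exact absurd (h.of_cong hwD ⟨x, hx⟩) he8
  · have h4 : ∀ i, ((w - aU : leechLattice) : GolayPt → ℤ) i % 4 = 0 := by
      intro i
      change ((w : GolayPt → ℤ) i - (aU : GolayPt → ℤ) i) % 4 = 0
      rw [aU_val]; have := hw4 i; split_ifs <;> omega
    have hset : (Finset.univ.filter fun i => ((w - aU : leechLattice) : GolayPt → ℤ) i % 8 = 4) =
        symmDiff (Finset.univ.filter fun i => (w : GolayPt → ℤ) i % 8 = 4) {pt 0, pt 1} := by
      ext i
      simp only [Finset.mem_symmDiff, Finset.mem_filter, Finset.mem_univ, true_and, Finset.mem_insert, Finset.mem_singleton]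
      change ((w : GolayPt → ℤ) i - (aU : GolayPt → ℤ) i) % 8 = 4 ↔ _
      rw [aU_val]; have := hw4 i
      by_cases h1 : i = pt 0 ∨ i = pt 1
      · rw [if_pos h1]; simp only [h1, not_true_eq_false, and_false, true_and, false_or]; omega
      · rw [if_neg h1]; simp only [h1, not_false_eq_true, and_true, false_and, or_false]; omega
    obtain ⟨x, hx | hx⟩ := zero_mod4 h4 (by rw [hset]; exact hA)
    · exact ⟨x + y, Or.inr (by
        have : v - aU = (w - aU) + (y + y) := by rw [hvw]; abel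
        rw [this, hx]; abel)⟩
    · exact absurd (h.of_cong (D.sub_mem hwD h.mem) ⟨x, hx⟩) he8

/-! ### the type 4 case -/

/-- the singular subgroup -/
def V4 : AddSubgroup leechLattice where
  carrier := {v | ∃ c : ℤ, ∀ i, (v : GolayPt → ℤ) i % 4 = (2 * c) % 4}
  zero_mem' := ⟨0, fun i => rfl⟩
  add_mem' := by
    rintro a b ⟨c, hc⟩ ⟨d, hd⟩
    refine ⟨c + d, fun i => ?_⟩
    change ((a : GolayPt → ℤ) i + (b : GolayPt → ℤ) i) % 4 = _
    have := hc i; have := hd i; omega
  neg_mem' := by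
    rintro a ⟨c, hc⟩
    refine ⟨c, fun i => ?_⟩
    change (-(a : GolayPt → ℤ) i) % 4 = _
    have := hc i; omega

theorem e8_alw (C : Finset GolayPt) (hC : C ∈ Cd) : Alw (e8 none) C hC := by
  by_cases h0 : none ∈ C
  · refine ⟨-e8 none, Subtype.ext (funext fun i => ?_)⟩
    change ((eps C hC • e8 none : leechLattice) : GolayPt → ℤ) i - (Pi.single none 8 : GolayPt → ℤ) i =
      -(Pi.single none 8 : GolayPt → ℤ) i + -(Pi.single none 8 : GolayPt → ℤ) i
    rw [eps_smul]
    change (if i ∈ C then -(Pi.single none 8 : GolayPt → ℤ) i else (Pi.single none 8 : GolayPt → ℤ) i) - _ = _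
    rw [single_apply']
    by_cases h1 : i = none
    · rw [if_pos h1, if_pos (h1 ▸ h0)]; norm_num
    · rw [if_neg h1]; simp
  · refine ⟨0, Subtype.ext (funext fun i => ?_)⟩
    change ((eps C hC • e8 none : leechLattice) : GolayPt → ℤ) i - (Pi.single none 8 : GolayPt → ℤ) i = 0 + 0
    rw [eps_smul]
    change (if i ∈ C then -(Pi.single none 8 : GolayPt → ℤ) i else (Pi.single none 8 : GolayPt → ℤ) i) - _ = _
    rw [single_apply']
    by_cases h1 : i = none
    · rw [if_neg (by rw [h1]; exact h0)]; norm_num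
    · rw [if_neg h1]; simp

theorem e8_perm {σ : Equiv.Perm GolayPt} (hσ : σ ∈ M24) : ∃ z : leechLattice, mono σ hσ ∅ cd_empty • e8 none - e8 none = z + z := by
  have h1 : ((mono σ hσ ∅ cd_empty • e8 none : leechLattice) : GolayPt → ℤ) = Pi.single (σ none) 8 := by
    rw [mono_smul]
    change signedPerm σ ∅ (Pi.single none 8) = _
    rw [signedPerm_single, if_neg (Finset.notMem_empty _)]
  refine eight_zero (fun i => (Pi.single (σ none) 1 : GolayPt → ℤ) i - (Pi.single none 1 : GolayPt → ℤ) i) (fun i => ?_) ?_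
  · change ((mono σ hσ ∅ cd_empty • e8 none : leechLattice) : GolayPt → ℤ) i - (Pi.single none 8 : GolayPt → ℤ) i = _
    rw [h1, single_apply', single_apply', single_apply', single_apply']; split_ifs <;> norm_num
  · rw [Finset.sum_sub_distrib, sum_single', sum_single']; norm_num

theorem perm_val {σ : Equiv.Perm GolayPt} (hσ : σ ∈ M24) (v : leechLattice) (i : GolayPt) :
    ((mono σ hσ ∅ cd_empty • v : leechLattice) : GolayPt → ℤ) (σ i) = (v : GolayPt → ℤ) i := by
  rw [mono_smul]; unfold signedPerm; rw [if_neg (Finset.notMem_empty _), Equiv.symm_apply_apply]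

/-- the set of positions congruent to 4 modulo 8 -/
def F4 (v : leechLattice) : Finset GolayPt := Finset.univ.filter fun i => (v : GolayPt → ℤ) i % 8 = 4

theorem mem_F4 {v : leechLattice} {i : GolayPt} : i ∈ F4 v ↔ (v : GolayPt → ℤ) i % 8 = 4 := by simp [F4]

theorem dot_F4 {v y : leechLattice} (hv : ∀ i, (v : GolayPt → ℤ) i % 2 = 0) (hy : ∀ i, (y : GolayPt → ℤ) i % 4 = 0) :
    dotInt (v : GolayPt → ℤ) (y : GolayPt → ℤ) % 16 = (8 * ((TT (v : GolayPt → ℤ) ∩ F4 y).card : ℤ)) % 16 := by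
  have h1 : ∀ i, ∃ k, (v : GolayPt → ℤ) i * (y : GolayPt → ℤ) i = 8 * ind (TT (v : GolayPt → ℤ) ∩ F4 y) i + 16 * k := by
    intro i
    obtain ⟨a, ha⟩ : ∃ a, (v : GolayPt → ℤ) i = 2 * a := ⟨_, by have := hv i; exact (Int.mul_ediv_cancel' (Int.dvd_of_emod_eq_zero this)).symm⟩
    obtain ⟨b, hb⟩ : ∃ b, (y : GolayPt → ℤ) i = 4 * b := ⟨_, by have := hy i; exact (Int.mul_ediv_cancel' (Int.dvd_of_emod_eq_zero this)).symm⟩
    have hT : i ∈ TT (v : GolayPt → ℤ) ↔ a % 2 = 1 := by rw [mem_TT, ha]; omega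
    have hF : i ∈ F4 y ↔ b % 2 = 1 := by rw [mem_F4, hb]; omega
    unfold ind
    rw [ha, hb]
    by_cases h2 : a % 2 = 1
    · by_cases h3 : b % 2 = 1
      · rw [if_pos (Finset.mem_inter.2 ⟨hT.2 h2, hF.2 h3⟩)]
        obtain ⟨c, hc⟩ : ∃ c, a = 2 * c + 1 := ⟨a / 2, by omega⟩
        obtain ⟨d, hd⟩ : ∃ d, b = 2 * d + 1 := ⟨b / 2, by omega⟩
        exact ⟨2 * c * d + c + d, by rw [hc, hd]; ring⟩
      · rw [if_neg (fun h => h3 (hF.1 (Finset.mem_inter.1 h).2))]
        obtain ⟨d, hd⟩ : ∃ d, b = 2 * d := ⟨b / 2, by omega⟩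
        exact ⟨a * d, by rw [hd]; ring⟩
    · rw [if_neg (fun h => h2 (hT.1 (Finset.mem_inter.1 h).1))]
      obtain ⟨c, hc⟩ : ∃ c, a = 2 * c := ⟨a / 2, by omega⟩
      exact ⟨c * b, by rw [hc]; ring⟩
  choose k hk using h1
  unfold dotInt
  rw [Finset.sum_congr rfl (fun i _ => hk i), Finset.sum_add_distrib, ← Finset.mul_sum, ← Finset.mul_sum, sum_ind]
  omega

theorem L4_sub {D : AddSubgroup leechLattice} (h : Inv (e8 none) D) : D ≤ V4 := by
  intro v hv
  have heven : ∀ i, (v : GolayPt → ℤ) i % 2 = 0 := by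
    rcases (mem_iff.1 v.2).2 with ⟨h1, _⟩ | ⟨h1, _⟩
    · exact h1
    · exact absurd h1 (h.no_odd (e8_alw _ (cd_iff.2 ⟨_, oc1_cw, rfl⟩)) (e8_alw _ (cd_iff.2 ⟨_, oc2_cw, rfl⟩))
        (by rw [pc_and]; exact oc12) hv)
  by_cases h1 : TT (v : GolayPt → ℤ) = ∅
  · refine ⟨0, fun i => ?_⟩
    have h2 : i ∉ TT (v : GolayPt → ℤ) := by rw [h1]; simp
    have h3 : ¬ _ := fun hh => h2 (mem_TT.2 hh)
    have := heven i; omega
  by_cases h2 : TT (v : GolayPt → ℤ) = Finset.univ
  · refine ⟨1, fun i => ?_⟩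
    have h3 : i ∈ TT (v : GolayPt → ℤ) := by rw [h2]; simp
    have h4 := mem_TT.1 h3
    have := heven i; omega
  exfalso
  have hT := (mem_iff.1 v.2).1
  obtain ⟨C, hC, hC8, hC4, _⟩ := exists_four hT h1 h2
  have hy := h.res_mem (e8_alw C hC) hv
  have hyA : F4 (res C hC v) = C ∩ TT (v : GolayPt → ℤ) := by
    ext i
    rw [mem_F4, Finset.mem_inter, mem_TT, res_val]
    have := heven i
    by_cases hi : i ∈ C
    · simp only [hi, if_true, true_and]; omega
    · simp [hi]
  have hy4 : ∀ i, (res C hC v : GolayPt → ℤ) i % 4 = 0 := by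
    intro i; rw [res_val]; have := heven i; split_ifs <;> omega
  -- a four-set meeting TT v in one point
  obtain ⟨B, hB4, hB1⟩ : ∃ B : Finset GolayPt, B.card = 4 ∧ (TT (v : GolayPt → ℤ) ∩ B).card = 1 := by
    have hc : 8 ≤ (TT (v : GolayPt → ℤ)).card := by
      have := Finset.card_pos.2 (Finset.nonempty_iff_ne_empty.2 h1)
      rcases cd_card hT with h | h | h | h | h <;> omega
    have hc' : 3 ≤ ((TT (v : GolayPt → ℤ))ᶜ).card := by
      have h5 : ((TT (v : GolayPt → ℤ))ᶜ).Nonempty := by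
        rw [Finset.nonempty_iff_ne_empty]; intro h6; exact h2 ((Finset.compl_eq_empty_iff _).1 h6)
      have := Finset.card_pos.2 h5
      rcases cd_card (cd_compl hT) with h | h | h | h | h <;> omega
    obtain ⟨x, hx⟩ := Finset.card_pos.1 (show 0 < (TT (v : GolayPt → ℤ)).card by omega)
    obtain ⟨s, hs, hs3⟩ := Finset.exists_subset_card_eq hc'
    have hxs : x ∉ s := fun hh => (Finset.mem_compl.1 (hs hh)) hx
    refine ⟨insert x s, by rw [Finset.card_insert_of_notMem hxs, hs3], ?_⟩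
    have : TT (v : GolayPt → ℤ) ∩ insert x s = {x} := by
      ext i
      simp only [Finset.mem_inter, Finset.mem_insert, Finset.mem_singleton]
      constructor
      · rintro ⟨h6, h7 | h7⟩
        · exact h7
        · exact absurd h6 (Finset.mem_compl.1 (hs h7))
      · rintro rfl; exact ⟨hx, Or.inl rfl⟩
    rw [this]; simp
  obtain ⟨σ, hσ, hσB⟩ := subset_trans (A := F4 (res C hC v)) (B := B) (by rw [hyA, hC4, hB4]) (by rw [hyA, hC4]; norm_num)
  have hsy := h.inv _ (e8_perm hσ) _ hy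
  have hF : F4 (mono σ hσ ∅ cd_empty • res C hC v) = B := by
    rw [← hσB]
    ext j
    obtain ⟨i, rfl⟩ := σ.surjective j
    rw [mem_F4, perm_val, ← mem_smul_iff' rfl i, mem_F4]
  have h5 := h.iso v hv _ hsy
  rw [dot_F4 heven (fun j => by
    obtain ⟨i, rfl⟩ := σ.surjective j
    rw [perm_val]; exact hy4 i), hF, hB1] at h5
  norm_num at h5

theorem F4_even {v : leechLattice} (hv : ∀ i, (v : GolayPt → ℤ) i % 4 = 0) : 2 ∣ (F4 v).card := by
  have hs : (∑ i, (v : GolayPt → ℤ) i) % 8 = 0 := by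
    rcases (mem_iff.1 v.2).2 with ⟨_, h⟩ | ⟨h, _⟩
    · exact h
    · have h1 := h none
      have h2 := hv none
      omega
  have h1 : ∀ i, ∃ k, (v : GolayPt → ℤ) i = 4 * ind (F4 v) i + 8 * k := by
    intro i
    have h2 := hv i
    unfold ind
    by_cases h3 : i ∈ F4 v
    · rw [if_pos h3]; rw [mem_F4] at h3; exact ⟨((v : GolayPt → ℤ) i - 4) / 8, by omega⟩
    · rw [if_neg h3]; rw [mem_F4] at h3; exact ⟨(v : GolayPt → ℤ) i / 8, by omega⟩
  choose k hk using h1
  rw [Finset.sum_congr rfl (fun i _ => hk i), Finset.sum_add_distrib, ← Finset.mul_sum, ← Finset.mul_sum, sum_ind] at hs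
  omega

/-- vectors with the same residues modulo 8 -/
theorem same_F4 {a : leechLattice} {D : AddSubgroup leechLattice} (h : Inv a D) (he : e8 none ∈ D) {v w : leechLattice} (hv : v ∈ D)
    (hv4 : ∀ i, (v : GolayPt → ℤ) i % 4 = 0) (hw4 : ∀ i, (w : GolayPt → ℤ) i % 4 = 0) (hF : F4 v = F4 w) : w ∈ D := by
  have hd : ∀ i, ((w - v : leechLattice) : GolayPt → ℤ) i = 8 * (((w - v : leechLattice) : GolayPt → ℤ) i / 8) := by
    intro i
    change (w : GolayPt → ℤ) i - (v : GolayPt → ℤ) i = 8 * (((w : GolayPt → ℤ) i - (v : GolayPt → ℤ) i) / 8)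
    have h1 := hv4 i
    have h2 := hw4 i
    have h3 : i ∈ F4 v ↔ i ∈ F4 w := by rw [hF]
    rw [mem_F4, mem_F4] at h3
    omega
  have hwv : w - v ∈ D := by
    rcases Int.emod_two_eq (∑ i, ((w - v : leechLattice) : GolayPt → ℤ) i / 8) with h1 | h1
    · obtain ⟨y, hy⟩ := eight_zero _ hd h1
      rw [hy]; exact h.two y
    · obtain ⟨y, hy⟩ := eight_one _ hd h1
      have : w - v = e8 none + (y + y) := by rw [← hy]; abel
      rw [this]; exact D.add_mem he (h.two y)
  have : w = v + (w - v) := by abel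
  rw [this]; exact D.add_mem hv hwv

def pairV (p q : GolayPt) : leechLattice := ⟨fun i => 4 * ((Pi.single p 1 : GolayPt → ℤ) i + (Pi.single q 1 : GolayPt → ℤ) i),
  four_mem (by rw [Finset.sum_add_distrib, sum_single', sum_single']; norm_num)⟩

theorem pairV_val (p q i : GolayPt) : (pairV p q : GolayPt → ℤ) i = 4 * ((if i = p then 1 else 0) + (if i = q then 1 else 0)) := by
  change 4 * ((Pi.single p 1 : GolayPt → ℤ) i + (Pi.single q 1 : GolayPt → ℤ) i) = _
  rw [single_apply', single_apply']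

theorem pairV_F4 {p q : GolayPt} (hpq : p ≠ q) : F4 (pairV p q) = {p, q} := by
  ext i
  rw [mem_F4, pairV_val, Finset.mem_insert, Finset.mem_singleton]
  by_cases h1 : i = p
  · have : i ≠ q := fun h => hpq (h1.symm.trans h)
    rw [if_pos h1, if_neg this]; simp [h1]
  · by_cases h2 : i = q
    · rw [if_neg h1, if_pos h2]; simp [h2]
    · rw [if_neg h1, if_neg h2]; simp [h1, h2]

theorem L4_top {D : AddSubgroup leechLattice} (h : Inv (e8 none) D) {v : leechLattice} (hv : v ∈ D)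
    (hne : ∀ y : leechLattice, v ≠ y + y ∧ v - e8 none ≠ y + y) : V4 ≤ D := by
  have he := h.mem
  -- reduce v to a vector divisible by 4
  have hv4 : ∀ u ∈ V4, ∃ y w : leechLattice, u = w + (y + y) ∧ ∀ i, (w : GolayPt → ℤ) i % 4 = 0 := by
    rintro u ⟨c, hc⟩
    apply reduce_even
    · intro i; have := hc i; omega
    · rcases Int.emod_two_eq c with h1 | h1
      · left
        rw [Finset.eq_empty_iff_forall_notMem]
        intro i hi; have := mem_TT.1 hi; have := hc i; omega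
      · right
        rw [Finset.eq_univ_iff_forall]
        intro i; rw [mem_TT]; have := hc i; omega
  obtain ⟨y, w, hvw, hw4⟩ := hv4 v (L4_sub h hv)
  have hwD : w ∈ D := h.of_cong hv ⟨y, by rw [hvw]; abel⟩
  obtain ⟨C, hC, hC4⟩ := near (F4 w)
  have hFne : F4 w ∉ Cd := by
    intro hcd
    obtain ⟨x, hx | hx⟩ := zero_mod4 hw4 hcd
    · exact (hne (x + y)).1 (by rw [hvw, hx]; abel)
    · exact (hne (x + y)).2 (by
        have : v - e8 none = (w - e8 none) + (y + y) := by rw [hvw]; abel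
        rw [this, hx]; abel)
  -- shift by the code word
  let w' : leechLattice := w - (⟨_, two_ind_mem hC⟩ + ⟨_, two_ind_mem hC⟩)
  have hw'v : ∀ i, (w' : GolayPt → ℤ) i = (w : GolayPt → ℤ) i - 4 * ind C i := by
    intro i
    change (w : GolayPt → ℤ) i - (2 * ind C i + 2 * ind C i) = _
    ring
  have hw'4 : ∀ i, (w' : GolayPt → ℤ) i % 4 = 0 := by
    intro i; rw [hw'v]; have := hw4 i; omega
  have hw'D : w' ∈ D := D.sub_mem hwD (h.two _)
  have hF' : F4 w' = symmDiff (F4 w) C := by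
    ext i
    rw [mem_F4, hw'v, Finset.mem_symmDiff, mem_F4]
    have := hw4 i
    unfold ind
    by_cases hi : i ∈ C
    · rw [if_pos hi]; simp only [hi, not_true_eq_false, and_false, true_and, false_or]; omega
    · rw [if_neg hi]; simp only [hi, not_false_eq_true, and_true, false_and, or_false]; omega
  have hcard : (F4 w').card = 2 ∨ (F4 w').card = 4 := by
    have h1 := F4_even hw'4
    rw [← hF'] at hC4
    have h2 : (F4 w').card ≠ 0 := by
      intro h3
      rw [Finset.card_eq_zero, hF'] at h3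
      apply hFne
      rw [symmDiff_eq_bot.1 h3]; exact hC
    omega
  -- every set of this size occurs
  have hall : ∀ B : Finset GolayPt, B.card = (F4 w').card → ∀ u : leechLattice, (∀ i, (u : GolayPt → ℤ) i % 4 = 0) → F4 u = B → u ∈ D := by
    intro B hB u hu4 huF
    obtain ⟨σ, hσ, hσB⟩ := subset_trans (A := F4 w') (B := B) hB.symm (by omega)
    have h1 := h.inv _ (e8_perm hσ) _ hw'D
    refine same_F4 h he h1 (fun j => ?_) hu4 ?_
    · obtain ⟨i, rfl⟩ := σ.surjective j
      rw [perm_val]; exact hw'4 i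
    · rw [huF, ← hσB]
      ext j
      obtain ⟨i, rfl⟩ := σ.surjective j
      rw [mem_F4, perm_val, ← mem_smul_iff' rfl i, mem_F4]
  have hpair4 : ∀ p q i, (pairV p q : GolayPt → ℤ) i % 4 = 0 := by intro p q i; rw [pairV_val]; omega
  have hpair : ∀ p q : GolayPt, p ≠ q → pairV p q ∈ D := by
    intro p q hpq
    rcases hcard with h2 | h4
    · exact hall {p, q} (by rw [Finset.card_pair hpq, h2]) _ (hpair4 p q) (pairV_F4 hpq)
    · -- choose r, s, t
      obtain ⟨s, hs, hs3⟩ := Finset.exists_subset_card_eq (s := ({p, q} : Finset GolayPt)ᶜ) (n := 3) (by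
        rw [Finset.card_compl, Finset.card_pair hpq, card_pt]; norm_num)
      obtain ⟨a, b, c, hab, hac, hbc, rfl⟩ := Finset.card_eq_three.1 hs3
      have hn : ∀ x ∈ ({a, b, c} : Finset GolayPt), x ≠ p ∧ x ≠ q := by
        intro x hx
        have := Finset.mem_compl.1 (hs hx)
        simp only [Finset.mem_insert, Finset.mem_singleton, not_or] at this
        exact this
      have na := hn a (by simp)
      have nb := hn b (by simp)
      have nc := hn c (by simp)
      have h5 : ∀ r, r ≠ a → r ≠ b → r ≠ c → pairV a b + pairV c r ∈ D := by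
        intro r ha hb hc
        have hF : F4 (pairV a b + pairV c r) = {a, b, c, r} := by
          ext i
          rw [mem_F4]
          change ((pairV a b : GolayPt → ℤ) i + (pairV c r : GolayPt → ℤ) i) % 8 = 4 ↔ _
          rw [pairV_val, pairV_val]
          simp only [Finset.mem_insert, Finset.mem_singleton]
          by_cases e1 : i = a
          · subst e1; simp [hab, hac, Ne.symm ha]
          · by_cases e2 : i = b
            · subst e2; simp [e1, hbc, Ne.symm hb]
            · by_cases e3 : i = c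
              · subst e3; simp [e1, e2, Ne.symm hc]
              · by_cases e4 : i = r
                · subst e4; simp [e1, e2, e3]
                · simp [e1, e2, e3, e4]
        refine hall {a, b, c, r} ?_ _ (fun i => ?_) hF
        · rw [h4, Finset.card_insert_of_notMem, Finset.card_insert_of_notMem, Finset.card_pair (Ne.symm hc)]
          · simp [hbc, Ne.symm hb]
          · simp [hab, hac, Ne.symm ha]
        · change ((pairV a b : GolayPt → ℤ) i + (pairV c r : GolayPt → ℤ) i) % 4 = 0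
          have := hpair4 a b i
          have := hpair4 c r i
          omega
      have h6 := D.sub_mem (h5 p (Ne.symm na.1) (Ne.symm nb.1) (Ne.symm nc.1)) (h5 q (Ne.symm na.2) (Ne.symm nb.2) (Ne.symm nc.2))
      refine same_F4 h he h6 (fun i => ?_) (hpair4 p q) ?_
      · change (((pairV a b : GolayPt → ℤ) i + (pairV c p : GolayPt → ℤ) i) - ((pairV a b : GolayPt → ℤ) i + (pairV c q : GolayPt → ℤ) i)) % 4 = 0
        have := hpair4 a b i
        have := hpair4 c p i
        have := hpair4 c q i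
        omega
      · rw [pairV_F4 hpq]
        ext i
        rw [mem_F4]
        change (((pairV a b : GolayPt → ℤ) i + (pairV c p : GolayPt → ℤ) i) - ((pairV a b : GolayPt → ℤ) i + (pairV c q : GolayPt → ℤ) i)) % 8 = 4 ↔ _
        rw [pairV_val, pairV_val, pairV_val]
        simp only [Finset.mem_insert, Finset.mem_singleton]
        by_cases e1 : i = p
        · rw [if_pos e1, if_neg (fun hh => hpq (e1.symm.trans hh))]
          simp only [e1, true_or, iff_true]; omega
        · by_cases e2 : i = q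
          · rw [if_neg e1, if_pos e2]
            simp only [e2, or_true, iff_true]; omega
          · rw [if_neg e1, if_neg e2]
            simp [e1, e2]
  -- induction on the size of F4
  have hind : ∀ n, ∀ u : leechLattice, (∀ i, (u : GolayPt → ℤ) i % 4 = 0) → (F4 u).card = n → u ∈ D := by
    intro n
    induction n using Nat.strong_induction_on with
    | _ n ih =>
      intro u hu4 hun
      rcases Nat.eq_zero_or_pos n with h0 | hpos
      · have : F4 u = F4 (0 : leechLattice) := by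
          have h1 : F4 u = ∅ := Finset.card_eq_zero.1 (hun.trans h0)
          rw [h1]; symm; rw [Finset.eq_empty_iff_forall_notMem]
          intro i hi; rw [mem_F4] at hi; change (0 : ℤ) % 8 = 4 at hi; norm_num at hi
        exact same_F4 h he D.zero_mem (fun i => rfl) hu4 this.symm
      · have h2 := F4_even hu4
        obtain ⟨p, q, hp, hq, hpq⟩ := Finset.one_lt_card_iff.1 (show 1 < (F4 u).card by omega)
        have h3 : F4 (u - pairV p q) = F4 u \ {p, q} := by
          ext i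
          rw [mem_F4, Finset.mem_sdiff, mem_F4, Finset.mem_insert, Finset.mem_singleton]
          change ((u : GolayPt → ℤ) i - (pairV p q : GolayPt → ℤ) i) % 8 = 4 ↔ _
          rw [pairV_val]
          rw [mem_F4] at hp hq
          by_cases e1 : i = p
          · have : i ≠ q := fun h => hpq (e1.symm.trans h)
            rw [if_pos e1, if_neg this, e1]; simp only [true_or, not_true_eq_false, and_false, iff_false]; omega
          · by_cases e2 : i = q
            · rw [if_neg e1, if_pos e2, e2]; simp only [or_true, not_true_eq_false, and_false, iff_false]; omega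
            · rw [if_neg e1, if_neg e2]; simp [e1, e2]
        have h4 : (F4 (u - pairV p q)).card < n := by
          rw [h3, ← hun]
          apply Finset.card_lt_card
          rw [Finset.ssubset_iff_subset_ne]
          refine ⟨Finset.sdiff_subset, fun hh => ?_⟩
          rw [← hh] at hp
          simp at hp
        have h5 := ih _ h4 (u - pairV p q) (fun i => by
          change ((u : GolayPt → ℤ) i - (pairV p q : GolayPt → ℤ) i) % 4 = 0
          have := hpair4 p q i
          have := hu4 i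
          omega) rfl
        have : u = (u - pairV p q) + pairV p q := by abel
        rw [this]; exact D.add_mem h5 (hpair p q hpq)
  intro u hu
  obtain ⟨y', w'', huw, hw''⟩ := hv4 u hu
  rw [huw]
  exact D.add_mem (hind _ w'' hw'' rfl) (h.two y')

end Cfsg.Agent.H9.Leech
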