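import Cfsg.Agent.H9.Leech.Dual
set_option autoImplicit false

/-! Shapes of short vectors, transitivity of the monomial group on each shape, and fusion. -/

namespace Cfsg.Agent.H9.Leech
open Cfsg Cfsg.Agent.H9
open scoped Pointwise

def AK (x : GolayPt → ℤ) (k : ℤ) : Finset GolayPt := Finset.univ.filter fun i => |x i| = k

theorem mem_AK {x : GolayPt → ℤ} {k : ℤ} {i : GolayPt} : i ∈ AK x k ↔ |x i| = k := by simp [AK]

theorem even_pt : ∀ v ∈ Finset.Icc (-8 : ℤ) 8, v % 2 = 0 → v ^ 2 = 4 * (if v % 4 = 2 ∨ v % 4 = 3 then 1 else 0) +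
    32 * (if |v| = 6 then 1 else 0) + 16 * (if |v| = 4 then 1 else 0) + 64 * (if |v| = 8 then 1 else 0) := by decide
theorem odd_pt : ∀ v ∈ Finset.Icc (-8 : ℤ) 8, v % 2 = 1 → v ^ 2 = 1 +
    8 * (if |v| = 3 then 1 else 0) + 24 * (if |v| = 5 then 1 else 0) + 48 * (if |v| = 7 then 1 else 0) := by decide

theorem norm_even {x : GolayPt → ℤ} (h64 : sqNorm x ≤ 64) (he : ∀ i, x i % 2 = 0) :
    sqNorm x = 4 * ((TT x).card : ℤ) + 32 * ((AK x 6).card : ℤ) + 16 * ((AK x 4).card : ℤ) + 64 * ((AK x 8).card : ℤ) := by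
  have h1 : ∀ i, x i ^ 2 = 4 * ind (TT x) i + 32 * ind (AK x 6) i + 16 * ind (AK x 4) i + 64 * ind (AK x 8) i := by
    intro i
    have h2 := abs_le_8 rfl h64 i
    have h3 := even_pt (x i) (Finset.mem_Icc.2 h2) (he i)
    unfold ind
    simp only [mem_TT, mem_AK]
    exact h3
  unfold sqNorm
  rw [Finset.sum_congr rfl (fun i _ => h1 i), Finset.sum_add_distrib, Finset.sum_add_distrib, Finset.sum_add_distrib,
    ← Finset.mul_sum, ← Finset.mul_sum, ← Finset.mul_sum, ← Finset.mul_sum, sum_ind, sum_ind, sum_ind, sum_ind]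

theorem norm_odd {x : GolayPt → ℤ} (h64 : sqNorm x ≤ 64) (ho : ∀ i, x i % 2 = 1) :
    sqNorm x = 24 + 8 * ((AK x 3).card : ℤ) + 24 * ((AK x 5).card : ℤ) + 48 * ((AK x 7).card : ℤ) := by
  have h1 : ∀ i, x i ^ 2 = 1 + 8 * ind (AK x 3) i + 24 * ind (AK x 5) i + 48 * ind (AK x 7) i := by
    intro i
    have h2 := abs_le_8 rfl h64 i
    have h3 := odd_pt (x i) (Finset.mem_Icc.2 h2) (ho i)
    unfold ind
    simp only [mem_AK]
    exact h3
  unfold sqNorm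
  rw [Finset.sum_congr rfl (fun i _ => h1 i), Finset.sum_add_distrib, Finset.sum_add_distrib, Finset.sum_add_distrib,
    ← Finset.mul_sum, ← Finset.mul_sum, ← Finset.mul_sum, sum_ind, sum_ind, sum_ind]
  simp

structure ShO (a b : ℕ) (x : GolayPt → ℤ) : Prop where
  mem : x ∈ leechLattice
  odd : ∀ i, x i % 2 = 1
  n3 : (AK x 3).card = a
  n5 : (AK x 5).card = b
  n7 : (AK x 7).card = 0
  le : sqNorm x ≤ 64

structure ShE (t a b c : ℕ) (x : GolayPt → ℤ) : Prop where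
  mem : x ∈ leechLattice
  even : ∀ i, x i % 2 = 0
  nT : (TT x).card = t
  n4 : (AK x 4).card = a
  n6 : (AK x 6).card = b
  n8 : (AK x 8).card = c
  le : sqNorm x ≤ 64

theorem n6_le {x : GolayPt → ℤ} : (AK x 6).card ≤ (TT x).card := by
  apply Finset.card_le_card
  intro i hi
  rw [mem_AK] at hi
  rw [mem_TT]
  rcases abs_eq (by norm_num : (0:ℤ) ≤ 6) |>.1 hi with h | h <;> omega

theorem n4_even {x : GolayPt → ℤ} (h64 : sqNorm x ≤ 64) (hx : x ∈ leechLattice) (he : ∀ i, x i % 2 = 0)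
    (hT : (TT x).card = 0) : 2 ∣ (AK x 4).card := by
  have hs : (∑ i, x i) % 8 = 0 := by
    rcases (mem_iff.1 hx).2 with ⟨_, h⟩ | ⟨h, _⟩
    · exact h
    · have h1 := h none
      have h2 := he none
      omega
  have h1 : ∀ i, ∃ k, x i = 4 * ind (AK x 4) i + 8 * k := by
    intro i
    have h2 := abs_le_8 rfl h64 i
    have h3 := he i
    have h4 : i ∉ TT x := by rw [Finset.card_eq_zero.1 hT]; simp
    have h5 : ¬ _ := fun h => h4 (mem_TT.2 h)
    unfold ind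
    by_cases h6 : i ∈ AK x 4
    · rw [if_pos h6]; rw [mem_AK] at h6
      rcases abs_eq (by norm_num : (0:ℤ) ≤ 4) |>.1 h6 with h | h
      · exact ⟨0, by omega⟩
      · exact ⟨-1, by omega⟩
    · rw [if_neg h6]; rw [mem_AK] at h6
      have h7 : x i ≠ 4 := by intro h; rw [h] at h6; exact h6 (by norm_num)
      have h8 : x i ≠ -4 := by intro h; rw [h] at h6; exact h6 (by norm_num)
      exact ⟨x i / 8, by omega⟩
  choose k hk using h1
  have h2 : ∑ i, x i = 4 * ((AK x 4).card : ℤ) + 8 * ∑ i, k i := by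
    rw [Finset.sum_congr rfl (fun i _ => hk i), Finset.sum_add_distrib, ← Finset.mul_sum, ← Finset.mul_sum, sum_ind]
  omega

theorem shapes32 {x : GolayPt → ℤ} (hx : x ∈ leechLattice) (hn : sqNorm x = 32) :
    ShO 1 0 x ∨ ShE 0 2 0 0 x ∨ ShE 8 0 0 0 x := by
  have h64 : sqNorm x ≤ 64 := by omega
  obtain ⟨hT, ⟨he, _⟩ | ⟨ho, _⟩⟩ := mem_iff.1 hx
  · have h1 := norm_even h64 he
    have h2 := n6_le (x := x)
    right
    rcases cd_card hT with h | h | h | h | h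
    · left; exact ⟨hx, he, h, by omega, by omega, by omega, h64⟩
    · right; exact ⟨hx, he, h, by omega, by omega, by omega, h64⟩
    all_goals omega
  · have h1 := norm_odd h64 ho
    left; exact ⟨hx, ho, by omega, by omega, by omega, h64⟩

theorem shapes48 {x : GolayPt → ℤ} (hx : x ∈ leechLattice) (hn : sqNorm x = 48) :
    ShO 3 0 x ∨ ShO 0 1 x ∨ ShE 8 1 0 0 x ∨ ShE 12 0 0 0 x := by
  have h64 : sqNorm x ≤ 64 := by omega
  obtain ⟨hT, ⟨he, _⟩ | ⟨ho, _⟩⟩ := mem_iff.1 hx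
  · have h1 := norm_even h64 he
    have h2 := n6_le (x := x)
    right; right
    rcases cd_card hT with h | h | h | h | h
    · have h3 := n4_even h64 hx he h
      omega
    · left; exact ⟨hx, he, h, by omega, by omega, by omega, h64⟩
    · right; exact ⟨hx, he, h, by omega, by omega, by omega, h64⟩
    all_goals omega
  · have h1 := norm_odd h64 ho
    rcases Nat.lt_or_ge 0 (AK x 5).card with h5 | h5
    · right; left; exact ⟨hx, ho, by omega, by omega, by omega, h64⟩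
    · left; exact ⟨hx, ho, by omega, by omega, by omega, h64⟩

theorem shapes64 {x : GolayPt → ℤ} (hx : x ∈ leechLattice) (hn : sqNorm x = 64) :
    ShO 5 0 x ∨ ShO 2 1 x ∨ ShE 0 0 0 1 x ∨ ShE 0 4 0 0 x ∨ ShE 8 0 1 0 x ∨ ShE 8 2 0 0 x ∨ ShE 12 1 0 0 x ∨ ShE 16 0 0 0 x := by
  have h64 : sqNorm x ≤ 64 := by omega
  obtain ⟨hT, ⟨he, _⟩ | ⟨ho, _⟩⟩ := mem_iff.1 hx
  · have h1 := norm_even h64 he
    have h2 := n6_le (x := x)
    right; right
    rcases cd_card hT with h | h | h | h | h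
    · rcases Nat.lt_or_ge 0 (AK x 8).card with h8 | h8
      · left; exact ⟨hx, he, h, by omega, by omega, by omega, h64⟩
      · right; left; exact ⟨hx, he, h, by omega, by omega, by omega, h64⟩
    · rcases Nat.lt_or_ge 0 (AK x 6).card with h8 | h8
      · right; right; left; exact ⟨hx, he, h, by omega, by omega, by omega, h64⟩
      · right; right; right; left; exact ⟨hx, he, h, by omega, by omega, by omega, h64⟩
    · right; right; right; right; left; exact ⟨hx, he, h, by omega, by omega, by omega, h64⟩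
    · right; right; right; right; right; exact ⟨hx, he, h, by omega, by omega, by omega, h64⟩
    · omega
  · have h1 := norm_odd h64 ho
    rcases Nat.lt_or_ge 0 (AK x 5).card with h5 | h5
    · right; left; exact ⟨hx, ho, by omega, by omega, by omega, h64⟩
    · left; exact ⟨hx, ho, by omega, by omega, by omega, h64⟩

theorem abs_odd {x : GolayPt → ℤ} (h64 : sqNorm x ≤ 64) (ho : ∀ i, x i % 2 = 1) (i : GolayPt) :
    |x i| = 1 ∨ |x i| = 3 ∨ |x i| = 5 ∨ |x i| = 7 := by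
  have h2 := abs_le_8 rfl h64 i
  have h3 := ho i
  rcases abs_cases (x i) with ⟨h, _⟩ | ⟨h, _⟩ <;> rw [h] <;> omega

theorem abs_even {x : GolayPt → ℤ} (h64 : sqNorm x ≤ 64) (ho : ∀ i, x i % 2 = 0) (i : GolayPt) :
    |x i| = 0 ∨ |x i| = 2 ∨ |x i| = 4 ∨ |x i| = 6 ∨ |x i| = 8 := by
  have h2 := abs_le_8 rfl h64 i
  have h3 := ho i
  rcases abs_cases (x i) with ⟨h, _⟩ | ⟨h, _⟩ <;> rw [h] <;> omega

theorem TT_even {x : GolayPt → ℤ} (ho : ∀ i, x i % 2 = 0) (i : GolayPt) : i ∈ TT x ↔ |x i| % 4 = 2 := by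
  rw [mem_TT]
  have h3 := ho i
  rcases abs_cases (x i) with ⟨h, _⟩ | ⟨h, _⟩ <;> rw [h] <;> omega

theorem mem_smul_iff' {g : Equiv.Perm GolayPt} {A B : Finset GolayPt} (h : g • A = B) (i : GolayPt) : i ∈ A ↔ g i ∈ B := by
  rw [← h, mem_smul_fin]; simp

theorem eqvO {a b : ℕ} {x y : GolayPt → ℤ} (hx : ShO a b x) (hy : ShO a b y) {g : Equiv.Perm GolayPt} (hg : g ∈ M24)
    (h3 : g • AK x 3 = AK y 3) (h5 : g • AK x 5 = AK y 5) : Eqv x y := by
  refine shape_odd hx.mem hy.mem hg (fun i => ?_) hx.odd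
  have e3 := mem_smul_iff' h3 i
  have e5 := mem_smul_iff' h5 i
  have e7 : i ∉ AK x 7 := by rw [Finset.card_eq_zero.1 hx.n7]; simp
  have e7' : g i ∉ AK y 7 := by rw [Finset.card_eq_zero.1 hy.n7]; simp
  rw [mem_AK, mem_AK] at e3 e5
  rw [mem_AK] at e7 e7'
  have f1 := abs_odd hx.le hx.odd i
  have f2 := abs_odd hy.le hy.odd (g i)
  generalize |x i| = u at *
  generalize |y (g i)| = v at *
  omega

theorem eqvO0 {a : ℕ} (ha : a ≤ 5) {x y : GolayPt → ℤ} (hx : ShO a 0 x) (hy : ShO a 0 y) : Eqv x y := by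
  obtain ⟨g, hg, h⟩ := subset_trans (A := AK x 3) (B := AK y 3) (by rw [hx.n3, hy.n3]) (by rw [hx.n3]; exact ha)
  exact eqvO hx hy hg h (by rw [Finset.card_eq_zero.1 hx.n5, Finset.card_eq_zero.1 hy.n5]; simp)

theorem smul_singleton' (g : Equiv.Perm GolayPt) (p : GolayPt) : g • ({p} : Finset GolayPt) = {g p} := by
  ext q; rw [mem_smul_fin]; simp only [Finset.mem_singleton]
  constructor
  · rintro rfl; simp
  · rintro rfl; simp

theorem eqvO1 {a : ℕ} (ha : a ≤ 4) {x y : GolayPt → ℤ} (hx : ShO a 1 x) (hy : ShO a 1 y) : Eqv x y := by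
  obtain ⟨p, hp⟩ := Finset.card_eq_one.1 hx.n5
  obtain ⟨q, hq⟩ := Finset.card_eq_one.1 hy.n5
  have hp' : p ∉ AK x 3 := by
    intro h; rw [mem_AK] at h
    have : p ∈ AK x 5 := by rw [hp]; simp
    rw [mem_AK] at this; omega
  have hq' : q ∉ AK y 3 := by
    intro h; rw [mem_AK] at h
    have : q ∈ AK y 5 := by rw [hq]; simp
    rw [mem_AK] at this; omega
  obtain ⟨g, hg, h, h'⟩ := pt_subset_trans (A := AK x 3) (B := AK y 3) (by rw [hx.n3, hy.n3]) (by rw [hx.n3]; exact ha) hp' hq'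
  exact eqvO hx hy hg h (by rw [hp, hq, smul_singleton', h'])

theorem eqvE {t a b c : ℕ} {x y : GolayPt → ℤ} (hx : ShE t a b c x) (hy : ShE t a b c y) (hs : t + 2 * (a + c) < 16)
    {g : Equiv.Perm GolayPt} (hg : g ∈ M24)
    (hT : g • TT x = TT y) (h4 : g • AK x 4 = AK y 4) (h6 : g • AK x 6 = AK y 6) (h8 : g • AK x 8 = AK y 8) : Eqv x y := by
  refine shape_even hx.mem hy.mem hg (fun i => ?_) hx.even ?_
  · have eT := mem_smul_iff' hT i
    have e4 := mem_smul_iff' h4 i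
    have e6 := mem_smul_iff' h6 i
    have e8 := mem_smul_iff' h8 i
    rw [TT_even hx.even, TT_even hy.even] at eT
    rw [mem_AK, mem_AK] at e4 e6 e8
    have f1 := abs_even hx.le hx.even i
    have f2 := abs_even hy.le hy.even (g i)
    generalize |x i| = u at *
    generalize |y (g i)| = v at *
    omega
  · have h1 : (Finset.univ.filter fun i => i ∉ TT x ∧ x i ≠ 0) ⊆ AK x 4 ∪ AK x 8 := by
      intro i hi
      obtain ⟨h1, h2⟩ := (Finset.mem_filter.1 hi).2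
      rw [TT_even hx.even] at h1
      rw [Finset.mem_union, mem_AK, mem_AK]
      rcases abs_even hx.le hx.even i with h | h | h | h | h
      · exact absurd (abs_eq_zero.1 h) h2
      · rw [h] at h1; exact absurd rfl h1
      · exact Or.inl h
      · rw [h] at h1; exact absurd rfl h1
      · exact Or.inr h
    have h2 := (Finset.card_le_card h1).trans (Finset.card_union_le _ _)
    rw [hx.n4, hx.n8] at h2
    rw [hx.nT]; omega

theorem smul_empty' (g : Equiv.Perm GolayPt) : g • (∅ : Finset GolayPt) = ∅ := by simp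

theorem card0 {A B : Finset GolayPt} (hA : A.card = 0) (hB : B.card = 0) (g : Equiv.Perm GolayPt) : g • A = B := by
  rw [Finset.card_eq_zero.1 hA, Finset.card_eq_zero.1 hB]; simp

theorem TT_oct {x : GolayPt → ℤ} {a b c : ℕ} (hx : ShE 8 a b c x) : TT x ∈ octads := ⟨(mem_iff.1 hx.mem).1, hx.nT⟩
theorem TT_dod {x : GolayPt → ℤ} {a b c : ℕ} (hx : ShE 12 a b c x) : TT x ∈ dodecads := ⟨(mem_iff.1 hx.mem).1, hx.nT⟩

theorem eqvE0 {a : ℕ} (ha : a ≤ 5) {x y : GolayPt → ℤ} (hx : ShE 0 a 0 0 x) (hy : ShE 0 a 0 0 y) : Eqv x y := by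
  obtain ⟨g, hg, h⟩ := subset_trans (A := AK x 4) (B := AK y 4) (by rw [hx.n4, hy.n4]) (by rw [hx.n4]; exact ha)
  exact eqvE hx hy (by omega) hg (card0 hx.nT hy.nT g) h (card0 hx.n6 hy.n6 g) (card0 hx.n8 hy.n8 g)

theorem eqvE8 {x y : GolayPt → ℤ} (hx : ShE 0 0 0 1 x) (hy : ShE 0 0 0 1 y) : Eqv x y := by
  obtain ⟨g, hg, h⟩ := subset_trans (A := AK x 8) (B := AK y 8) (by rw [hx.n8, hy.n8]) (by rw [hx.n8]; norm_num)
  exact eqvE hx hy (by omega) hg (card0 hx.nT hy.nT g) (card0 hx.n4 hy.n4 g) (card0 hx.n6 hy.n6 g) h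

theorem eqvE_oct {x y : GolayPt → ℤ} (hx : ShE 8 0 0 0 x) (hy : ShE 8 0 0 0 y) : Eqv x y := by
  obtain ⟨g, hg, h⟩ := octad_trans (TT_oct hx) (TT_oct hy)
  exact eqvE hx hy (by omega) hg h (card0 hx.n4 hy.n4 g) (card0 hx.n6 hy.n6 g) (card0 hx.n8 hy.n8 g)

theorem eqvE_dod {x y : GolayPt → ℤ} (hx : ShE 12 0 0 0 x) (hy : ShE 12 0 0 0 y) : Eqv x y := by
  obtain ⟨g, hg, h⟩ := dodecad_trans (TT_dod hx) (TT_dod hy)
  exact eqvE hx hy (by omega) hg h (card0 hx.n4 hy.n4 g) (card0 hx.n6 hy.n6 g) (card0 hx.n8 hy.n8 g)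

theorem not_TT4 {x : GolayPt → ℤ} (he : ∀ i, x i % 2 = 0) {p : GolayPt} (hp : p ∈ AK x 4) : p ∉ TT x := by
  rw [TT_even he, mem_AK.1 hp]; norm_num

theorem eqvE_oct4 {x y : GolayPt → ℤ} (hx : ShE 8 1 0 0 x) (hy : ShE 8 1 0 0 y) : Eqv x y := by
  obtain ⟨p, hp⟩ := Finset.card_eq_one.1 hx.n4
  obtain ⟨q, hq⟩ := Finset.card_eq_one.1 hy.n4
  obtain ⟨g, hg, h, h'⟩ := oct_out_trans (TT_oct hx) (TT_oct hy) (not_TT4 hx.even (p := p) (by rw [hp]; simp))
    (not_TT4 hy.even (p := q) (by rw [hq]; simp))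
  exact eqvE hx hy (by omega) hg h (by rw [hp, hq, smul_singleton', h']) (card0 hx.n6 hy.n6 g) (card0 hx.n8 hy.n8 g)

theorem eqvE_dod4 {x y : GolayPt → ℤ} (hx : ShE 12 1 0 0 x) (hy : ShE 12 1 0 0 y) : Eqv x y := by
  obtain ⟨p, hp⟩ := Finset.card_eq_one.1 hx.n4
  obtain ⟨q, hq⟩ := Finset.card_eq_one.1 hy.n4
  obtain ⟨g, hg, h, h'⟩ := dod_out_trans (TT_dod hx) (TT_dod hy) (not_TT4 hx.even (p := p) (by rw [hp]; simp))
    (not_TT4 hy.even (p := q) (by rw [hq]; simp))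
  exact eqvE hx hy (by omega) hg h (by rw [hp, hq, smul_singleton', h']) (card0 hx.n6 hy.n6 g) (card0 hx.n8 hy.n8 g)

theorem eqvE_oct6 {x y : GolayPt → ℤ} (hx : ShE 8 0 1 0 x) (hy : ShE 8 0 1 0 y) : Eqv x y := by
  obtain ⟨p, hp⟩ := Finset.card_eq_one.1 hx.n6
  obtain ⟨q, hq⟩ := Finset.card_eq_one.1 hy.n6
  obtain ⟨g, hg, h, h'⟩ := oct_in_trans (TT_oct hx) (TT_oct hy) (p := p) (p' := q)
    (by rw [TT_even hx.even, mem_AK.1 (show p ∈ AK x 6 by rw [hp]; simp)]; norm_num)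
    (by rw [TT_even hy.even, mem_AK.1 (show q ∈ AK y 6 by rw [hq]; simp)]; norm_num)
  exact eqvE hx hy (by omega) hg h (card0 hx.n4 hy.n4 g) (by rw [hp, hq, smul_singleton', h']) (card0 hx.n8 hy.n8 g)

theorem smul_pair' (g : Equiv.Perm GolayPt) (p q : GolayPt) : g • ({p, q} : Finset GolayPt) = {g p, g q} := by
  ext r; rw [mem_smul_fin]; simp only [Finset.mem_insert, Finset.mem_singleton]
  constructor
  · rintro (h | h)
    · left; rw [← h]; simp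
    · right; rw [← h]; simp
  · rintro (rfl | rfl)
    · left; simp
    · right; simp

theorem eqvE_oct44 {x y : GolayPt → ℤ} (hx : ShE 8 2 0 0 x) (hy : ShE 8 2 0 0 y) : Eqv x y := by
  obtain ⟨p, p', hpp, hp⟩ := Finset.card_eq_two.1 hx.n4
  obtain ⟨q, q', hqq, hq⟩ := Finset.card_eq_two.1 hy.n4
  obtain ⟨g, hg, h, h', h''⟩ := oct_out2_trans (TT_oct hx) (TT_oct hy) (not_TT4 hx.even (p := p) (by rw [hp]; simp))
    (not_TT4 hy.even (p := q) (by rw [hq]; simp)) (not_TT4 hx.even (p := p') (by rw [hp]; simp))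
    (not_TT4 hy.even (p := q') (by rw [hq]; simp)) (Ne.symm hpp) (Ne.symm hqq)
  exact eqvE hx hy (by omega) hg h (by rw [hp, hq, smul_pair', h', h'']) (card0 hx.n6 hy.n6 g) (card0 hx.n8 hy.n8 g)

/-! ### boolean shape checks for explicit vectors -/

def bO (a b : ℕ) (l : List ℤ) : Bool := decide (∀ i, vec l i % 2 = 1) && decide ((AK (vec l) 3).card = a) &&
  decide ((AK (vec l) 5).card = b) && decide ((AK (vec l) 7).card = 0) && decide (sqNorm (vec l) ≤ 64)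
def bE (t a b c : ℕ) (l : List ℤ) : Bool := decide (∀ i, vec l i % 2 = 0) && decide ((TT (vec l)).card = t) && decide ((AK (vec l) 4).card = a) &&
  decide ((AK (vec l) 6).card = b) && decide ((AK (vec l) 8).card = c) && decide (sqNorm (vec l) ≤ 64)

theorem bO_spec {a b : ℕ} {l : List ℤ} (h : bO a b l = true) (hm : vec l ∈ leechLattice) : ShO a b (vec l) := by
  unfold bO at h
  simp only [Bool.and_eq_true, decide_eq_true_eq] at h
  exact ⟨hm, h.1.1.1.1, h.1.1.1.2, h.1.1.2, h.1.2, h.2⟩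
theorem bE_spec {t a b c : ℕ} {l : List ℤ} (h : bE t a b c l = true) (hm : vec l ∈ leechLattice) : ShE t a b c (vec l) := by
  unfold bE at h
  simp only [Bool.and_eq_true, decide_eq_true_eq] at h
  exact ⟨hm, h.1.1.1.1.1, h.1.1.1.1.2, h.1.1.1.2, h.1.1.2, h.1.2, h.2⟩

noncomputable def chkC (l z l' : List ℤ) : Bool := chkL (vec l) && chkL (vec z) && decide (∀ p, vec l p - vec l' p = 2 * vec z p)

theorem cong_of_chk {l z l' : List ℤ} (h : chkC l z l' = true) : vec l ∈ leechLattice ∧ vec l' ∈ leechLattice ∧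
    ∃ w ∈ leechLattice, vec l - vec l' = w + w := by
  unfold chkC at h
  simp only [Bool.and_eq_true, decide_eq_true_eq] at h
  have h1 := mem_of_chk h.1.1
  have h2 := mem_of_chk h.1.2
  have h3 : vec l - vec l' = vec z + vec z := by
    funext p; simp only [Pi.sub_apply, Pi.add_apply]; rw [h.2 p]; ring
  refine ⟨h1, ?_, _, h2, h3⟩
  have : vec l' = vec l - (vec z + vec z) := by rw [← h3]; abel
  rw [this]; exact leechLattice.sub_mem h1 (leechLattice.add_mem h2 h2)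

def e32av : List ℤ := [-1, -1, 3, 1, -1, 1, -1, 1, -1, 1, 1, 1, 1, 1, -1, 1, 1, 1, 1, 1, -1, 1, 1, 1]
def e32aw : List ℤ := [-2, -2, 2, 0, 2, 0, 2, 0, 2, 0, 0, 0, 0, 0, 2, 0, 0, 0, 0, 0, 2, 0, 0, 0]
theorem e32a_ok : chkXi e32av e32aw = true := by decide +kernel
def e32bv : List ℤ := [0, 0, 0, 0, 2, 2, 0, 2, 0, 0, 2, 0, -2, 0, -2, 0, 0, 2, 0, 0, 0, 0, 0, 2]
def e32bw : List ℤ := [0, 0, 0, 0, 0, 0, 0, 0, 0, 0, 0, 0, 4, 0, 4, 0, 0, 0, 0, 0, 0, 0, 0, 0]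
theorem e32b_ok : chkXi e32bv e32bw = true := by decide +kernel
def e48av : List ℤ := [-1, 1, 1, 1, -1, 1, -1, 1, 1, -1, 1, 1, 1, -1, -1, 3, -1, 3, 1, -1, 1, 1, -1, 3]
def e48aw : List ℤ := [-2, 0, 0, 0, 2, 2, 0, 0, 0, 0, 0, -2, 0, 2, 4, -2, 2, 0, 0, 2, 0, 0, 0, 0]
theorem e48a_ok : chkXi e48av e48aw = true := by decide +kernel
def e48bv : List ℤ := [5, 1, 1, -1, -1, 1, 1, 1, 1, 1, -1, -1, -1, -1, -1, 1, -1, -1, -1, 1, 1, -1, 1, -1]
def e48bw : List ℤ := [2, -2, -2, -4, 0, -2, 0, -2, 0, 0, 0, 2, 0, 0, 0, 0, 2, 0, 0, 0, -2, 0, 0, 0]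
theorem e48b_ok : chkXi e48bv e48bw = true := by decide +kernel
def e48cv : List ℤ := [0, 0, 2, -2, 0, 0, -2, 0, 2, 0, 0, 0, 0, -2, -2, -2, -2, -2, 0, -2, 0, -2, -2, 0]
def e48cw : List ℤ := [0, 0, 2, -2, 0, -2, 0, 0, -4, -2, 0, -2, 0, 0, 0, 0, 0, 0, -2, 0, -2, 0, 0, -2]
theorem e48c_ok : chkXi e48cv e48cw = true := by decide +kernel
def e64av : List ℤ := [0, 0, 0, 8, 0, 0, 0, 0, 0, 0, 0, 0, 0, 0, 0, 0, 0, 0, 0, 0, 0, 0, 0, 0]
def e64aw : List ℤ := [-4, -4, -4, 4, 0, 0, 0, 0, 0, 0, 0, 0, 0, 0, 0, 0, 0, 0, 0, 0, 0, 0, 0, 0]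
theorem e64a_ok : chkXi e64av e64aw = true := by decide +kernel
def e64bv : List ℤ := [0, 0, 0, 0, -2, 0, -2, 2, 0, -2, 2, -2, -6, 0, 0, 0, 0, 0, 0, 0, 0, 0, 2, 0]
def e64bw : List ℤ := [0, 0, 0, 0, 0, 0, 0, -4, 0, 0, -4, 0, 4, 0, 0, 0, 0, 0, 0, 0, 0, 0, -4, 0]
theorem e64b_ok : chkXi e64bv e64bw = true := by decide +kernel
def e64cv : List ℤ := [0, 0, 0, 0, -2, 2, 0, -2, 0, 0, 2, 0, -2, 0, 2, -4, -4, 2, 0, 0, 0, 0, 0, -2]
def e64cw : List ℤ := [0, 0, 0, 0, 0, 0, 0, 0, -4, 0, -4, 0, 0, 0, 0, 0, 0, 0, 0, -4, 0, 0, 0, 4]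
theorem e64c_ok : chkXi e64cv e64cw = true := by decide +kernel
def e64dv : List ℤ := [2, 2, 0, 0, 0, 4, 2, 2, 0, 2, 0, 2, 2, 0, 2, 0, 0, 0, -2, 0, 0, 2, -2, -2]
def e64dw : List ℤ := [0, 0, -2, -2, 2, -2, 0, 0, 0, 0, 2, 0, 0, 0, 0, 0, 0, 2, 2, 0, 0, -2, 4, 4]
theorem e64d_ok : chkXi e64dv e64dw = true := by decide +kernel
def e64ev : List ℤ := [-1, -1, -1, 1, -1, -1, 1, -1, -1, 1, -1, -1, 1, 1, -1, -3, 5, -1, -1, -3, 1, 1, 1, 1]
def e64ew : List ℤ := [0, 0, 0, 2, 0, 0, 0, 0, 0, 0, 0, 2, -2, 0, 0, 2, -6, 0, 2, 2, 0, 0, 0, -2]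
theorem e64e_ok : chkXi e64ev e64ew = true := by decide +kernel
def c35v : List ℤ := [-3, 1, 1, 1, 1, 1, 1, 1, 1, 1, 1, 1, -3, 1, -3, 1, -3, -3, 1, 1, 1, 1, 1, 1]
def c35z : List ℤ := [-2, 0, 0, 0, 0, 0, 0, 0, 0, 0, 0, 0, -2, 0, -2, 0, -2, -2, 2, 0, 0, 0, 2, -2]
def c35w : List ℤ := [1, 1, 1, 1, 1, 1, 1, 1, 1, 1, 1, 1, 1, 1, 1, 1, 1, 1, -3, 1, 1, 1, -3, 5]
theorem c35_ok : chkC c35v c35z c35w = true := by decide +kernel
def c16av : List ℤ := [0, 0, 0, 0, 2, 0, 2, 2, 2, 2, 2, 2, 2, 2, 0, 2, 2, 0, 2, 2, 2, 2, 2, 0]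
def c16az : List ℤ := [-3, 1, 1, 1, 1, 1, 1, 1, 1, 1, 1, 1, 1, 1, 1, 1, 1, 1, 1, 1, 1, 1, 1, 1]
def c16aw : List ℤ := [6, -2, -2, -2, 0, -2, 0, 0, 0, 0, 0, 0, 0, 0, -2, 0, 0, -2, 0, 0, 0, 0, 0, -2]
theorem c16a_ok : chkC c16av c16az c16aw = true := by decide +kernel
def c16bv : List ℤ := [0, 0, 0, 0, -2, 0, -2, 2, 2, 2, 2, 2, 2, 2, 0, 2, 2, 0, 2, 2, 2, 2, 2, 0]
def c16bz : List ℤ := [1, 1, 1, 1, -3, 1, 1, 1, 1, 1, 1, 1, 1, 1, 1, 1, 1, 1, 1, 1, 1, 1, 1, 1]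
def c16bw : List ℤ := [-2, -2, -2, -2, 4, -2, -4, 0, 0, 0, 0, 0, 0, 0, -2, 0, 0, -2, 0, 0, 0, 0, 0, -2]
theorem c16b_ok : chkC c16bv c16bz c16bw = true := by decide +kernel

/-! ### transitivity on vectors of norm 32 and 48 -/

theorem s32a : bO 1 0 e32av = true := by decide +kernel
theorem s32a' : bE 8 0 0 0 e32aw = true := by decide +kernel
theorem s32b : bE 8 0 0 0 e32bv = true := by decide +kernel
theorem s32b' : bE 0 2 0 0 e32bw = true := by decide +kernel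

theorem trans32 {x y : GolayPt → ℤ} (hx : x ∈ leechLattice) (hy : y ∈ leechLattice) (hxn : sqNorm x = 32) (hyn : sqNorm y = 32) : Eqv x y := by
  have key : ∀ x, x ∈ leechLattice → sqNorm x = 32 → Eqv x (vec e32bw) := by
    intro x hx hn
    have e1 := xi_of_chk e32a_ok
    have e2 := xi_of_chk e32b_ok
    have k2 : Eqv (vec e32bv) (vec e32bw) := ⟨_, e2⟩
    rcases shapes32 hx hn with h | h | h
    · exact ((eqvO0 (by norm_num) h (bO_spec s32a e1.mem)).trans ⟨_, e1⟩).trans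
        ((eqvE_oct (bE_spec s32a' e1.mem') (bE_spec s32b e2.mem)).trans k2)
    · exact eqvE0 (by norm_num) h (bE_spec s32b' e2.mem')
    · exact (eqvE_oct h (bE_spec s32b e2.mem)).trans k2
  exact (key x hx hxn).trans (key y hy hyn).symm

theorem s48a : bO 3 0 e48av = true := by decide +kernel
theorem s48a' : bE 8 1 0 0 e48aw = true := by decide +kernel
theorem s48b : bO 0 1 e48bv = true := by decide +kernel
theorem s48b' : bE 8 1 0 0 e48bw = true := by decide +kernel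
theorem s48c : bE 12 0 0 0 e48cv = true := by decide +kernel
theorem s48c' : bE 8 1 0 0 e48cw = true := by decide +kernel

theorem trans48 {x y : GolayPt → ℤ} (hx : x ∈ leechLattice) (hy : y ∈ leechLattice) (hxn : sqNorm x = 48) (hyn : sqNorm y = 48) : Eqv x y := by
  have key : ∀ x, x ∈ leechLattice → sqNorm x = 48 → Eqv x (vec e48aw) := by
    intro x hx hn
    have e1 := xi_of_chk e48a_ok
    have e2 := xi_of_chk e48b_ok
    have e3 := xi_of_chk e48c_ok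
    have r := bE_spec s48a' e1.mem'
    rcases shapes48 hx hn with h | h | h | h
    · exact (eqvO0 (by norm_num) h (bO_spec s48a e1.mem)).trans ⟨_, e1⟩
    · exact ((eqvO1 (by norm_num) h (bO_spec s48b e2.mem)).trans ⟨_, e2⟩).trans (eqvE_oct4 (bE_spec s48b' e2.mem') r)
    · exact eqvE_oct4 h r
    · exact ((eqvE_dod h (bE_spec s48c e3.mem)).trans ⟨_, e3⟩).trans (eqvE_oct4 (bE_spec s48c' e3.mem') r)
  exact (key x hx hxn).trans (key y hy hyn).symm

end Cfsg.Agent.H9.Leech
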